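import Cfsg.Agent.Lib.PermNet
import Cfsg.Agent.SuzThree.FourTrans
import Cfsg.Agent.Lib.PermNetFast
import Mathlib
import Cfsg.Agent.OddHalf.MM.Main_m3
import Cfsg.Agent.H836.Main
import Cfsg.Agent.H58.Rec.Outer_m3
import Cfsg.Agent.H812.SuzSeven_m3
import Cfsg.Agent.Lib.FastPerm
import Cfsg.Agent.H385.SpTop
import Cfsg.Agent.FastGrp
import Cfsg.Agent.Prune
set_option linter.all false

section
prune_inst 0x7ff1fefbdcf8bddfffff7e7fffb7dffdf9fc7fffffdff9fbffe1ebffdfff4b676be1fba76fefd8fcced6e09410f87b13ff7eeeffea6fd87ffffdbff45ffbff9fedfebd0d51d5b83e0ffe6ffefbf07fae7f3fffffffffffffffffffffffffffffffffffffffff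

-- part: H359/Rec/SuzNets
section
set_option linter.all false

/-!
Swap networks (1782 points and 252 points) for elements of the Suzuki group.
-/

set_option autoImplicit false
set_option maxRecDepth 100000

namespace Cfsg.Agent.H359.Rec.SuzNets

open Cfsg.Agent.Lib.PermNet

/-- network of an element of order 7 -/
noncomputable def g0N : Net :=
  .cons 0xae12f12fb05a1a604cbce6023ef39a4d1751d6dd554d767b4818326186776b62f451c7f7e4ed257c7acf4bb8b5a005c9e6f53327aa085582e35ecc726b78c058ac6b739bcf6eb9a8779acef9230b1005019ed8d60f1bac45ef72fad712a8bef652677bb1ee36ce70c2fd20f3e02b83dd71565f1773cd75c0d4b1ce242b3a8621 1024 <|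
  .cons 0xd8755ce6dc63d8d99889b40f38d43932b5957204d3c337f546de9f35187c41790af3b5bc9561005016b32e11ae598a42eb01e049ddebf5072f889bd35a55fbc00000000000000000000000000000000000000000000000000000000000000000000000000000000000000000000000000000000000000000000000000000000091eaded62a21420f046d655ac34ac61b17605e65cfd6a63c24ecd21515f3001aaf0930fa0e5284dd7150c675bedd9c1094b8c8d7cf92b417fdb788f10a856188 512 <|
  .cons 0xf26f8a31e9219e2d3b77ec158143095936868963ebf800739d847ea2b0afaad6000000000000000000000000000000000000000000000000000000000000000001e876a808f63cde5d905d39bd129913e3be688e148023ba9a812c3aa4586e0000000000000000000000000000000000000000000000000000000000000000004e475df7f95c73de46807d57e59f0d895e9d6e237159eae7f297812d73b0aee7000000000000000000000000000000000000000000000000000000000000000004ae256b3a56d6e901c5a783472caba895f7ab6fb186163039ffc8b3a40e70c5 256 <|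
  .cons 0xb1d780c29ea7d40fea2e8f853082e3e0000000000000000000000000000000004db8dea43d0c38b9107124e358ed798200000000000000000000000000000000e60f4e3a7cc67c9e71d74ca1bd92ad02000000000000000000000000000000000b110a8270acbc68bfab7fe03381c3d400000000000000000000000000000000f4d9abe60bc8436233274ac9dac6962c00000000000000000000000000000000e80de1318b50f4ae33d460ce2c7e255d00000000000000000000000000000000efb187170fdd11ddfb98abe8c38b13ca00000000000000000000000000000000cca29e1b39d238f06b109afbc6a60ed5 128 <|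
  .cons 0x6b3d87a63ad5058e00000000000000001679e1ae37aa9dcb0000000000000000246871aeb9aeb7be000000000000000006c4ae5ba5d4cd530000000000000000ca9027c04c5c41380000000000000000f5949aa771a3bd2c0000000000000000fff6b3423457b9610000000000000000c28158281a4f58820000000000000000ebf9183f21d65bb40000000000000000cbddd444b453498f0000000000000000a3adfba0f7287fb0000000000000000065b516143d240358000000000000000093edb8470cb1d9c00000000000000000ce3b0f75545d0f92000000000000000058e749e8d12895d80000000000000000d66e2bfce01a20d8 64 <|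
  .cons 0x526f7bd7000000002c496a8500000000667c1e4f0000000058758bcb0000000084d1366b0000000060f08f030000000090ceadc900000000aeec49dd00000000c75cd4d8000000003b83ad8800000000a85e3676000000008e8fea56000000001821c08900000000be274db800000000b4a42cf8000000002025e1ec0000000080a0a8be000000009de29a3200000000b92c8d5200000000a1c86b7200000000837dafe5000000009af6cba80000000053bea5e800000000e86c078500000000b1a1040b0000000049fff7da00000000f13e088c00000000a28528df00000000d7ce993a000000001c7a62c8000000008a0a84bb00000000ffd48870 32 <|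
  .cons 0x110200000b4f00002d360000d7830000a4520000a2340000bf170000652700009c0700004d300000cc92000046700000287e00000f1d000007280000dbe5000029e40000359000003f220000af8f00000cae000096c1000095100000de4000004b20000086a40000030c000070d00000dfbf00000aa10000745d000000e90000a1fe000093760000137b0000d72f0000390d00002acd00001e010000ea27000066e00000ad690000a69c0000bc8c000084e800006cda00009b36000059440000e8c6000058990000746400000e6c0000d65d00001c8600001cf400009ad400001f460000ae2e00000a8e00003deb0000e5d000000770000016f900002a14 16 <|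
  .cons 0xe10081000f001e004300810002002c00a00088008e004800d400c3004d00f600560021007b004a0008007900c600a7003e006a0012008a006200c40033003e003600c4007c008000c200e300b60005009c00c600800048001a00fc00c2003000a40000006a006a00e2003a00e100f4003900b7002500c60044004e00db00b60042007a007e00a600fb00090047002e0022006500e00083006000ce009700aa0066007b006a00500022008a00e2001900c0002c00c2001400c700ec00c700f3008a002500d200ad00c5003200c400fe00d800eb00fa004d00d0004b003900b700390076009400da003b00ea0065008e00d000ba0098000600f0008c00040057 8 <|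
  .cons 0x5000b0f0a050a02030d030f06080008020e04090c0a0e0001020e0c0e010704010c090c000e080608060d090c09070b0c0f0b0d0807030e090f0e050a05060d000c0e0e0c040800030a020a07010a0f000c01080002090206020e0101000208060200060508060e0a090c0e0d0506060f0007020f000a04050204050f0e0a0b08050801030c06050e0f03040500040606090e070e0c08080e0001050f020c00020001080209090c0e0e02030b040b04000e0504070e040007000b060b08010a08020e0a0904030a080e02040e050408090406000707090e0608050e08010b030b040106000503080702000e0001020a070e08070d0e0c070f0c080504080100 4 <|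
  .cons 0x13331032133200013213220310233200022222011013103213110230122222121112133202013002302322123233130203000000201302221200020101203030002313310001000320002122303321030122000312202223331320210013001201010331310230130031200021301332321202112303312222010020001223213001322210103322020010101312030112333302001011321110200010010210210121300032000120300332020103323312001003002121212020122320101123001000211303212303211131220112031013023030110010322001200121102123031033212232022221220320223133220232101310212023121220011 2 <|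
  .cons 0x41040114111114101501444014111541401444514014154454115004140141141150404041141401404541514544141140541014405110441411044001451444514115115440154004400150504111144050451144144101404154445400101411411001041441041510111404115401410510010104105101414404411540404150414141410141401154401404515010010114540505404400140114014140014011101115505041000441410444411445005011101000504441440441114515041104050514100144114101511100444014015101044451050111041114010501044000151011010511044014144111515400411150411401414040111445 1 <|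
  .cons 0x20000200202002000000202020022020202020020020002202200002220002022000000020002000000002022002220200022022000200022022002002200002002220200200000000200200002022222000002002022202200202200200202002000002002022020000022200200200200000020002000202200200002020002200002022200000202000000002020000020000020000002000020220022000000022002220000020000000020020000220000002202000000202020222222020002002000022200202202202022200022022020000022002000000002220000000022000000002000002000020002002020000220000002202020020200020 2 <|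
  .cons 0x2000a0e0e040c00000a000e0400000c000c000804060c000002060a0e020204040c080e060c0c00080a04040800040a060e0c04000602020e02040c0808040200040c080a000808080a0a080004080e060c0808000208080c060a0a0400000400040006080c0c0c00020400000002060802020806040e0800060000080804080e0a08060000040c0c08040004000c0e040806020c04080408000008020a0204020c080c000000040e0c000a0e04080c0000000808080c00000c0000080c08000008020800080c0004000a0e02080a000004080a0400000a04080600000004040a080000000e02080606000806000800040400080c040c0a0c08080c0400020a 4 <|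
  .cons 0x2a0042001400460096008a007c009c00d00080002c000a00c0005c007000bc005000480060004a004000200024001600fe001000820088000600340018001000d400a6005c0018005000e00088005800f800d400e20048001a004e0022009c009c001000880020005800bc00be00f4007800a0003400460000006800480070007200d8003800ec00ce000c0008002c00a200040038008200420044009a000c006400480072001c00260098008a009800a000a8008a001400ca004000c2007400000010005c00f40000009a009400dc00d8002a0078009a003200b80020009800f800360078003000780032003c00c800c0008800c80012002400d400200050 8 <|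
  .cons 0x159a00003002000064a00000dd74000024400000a46400000b860000f9200000c90a0000a3500000cc16000025c800006e260000d3180000cf300000db6000006256000031c00000f20800005fc200000ca200001740000021f800006eb000002a02000049ae0000e08600005210000018b8000044c00000743c0000c1c8000063b40000aa540000306e0000b2340000f12a00002e44000083aa00002e240000a44800007b2800008bd00000e5080000b02e000064c800009a740000bc4800006ea600004916000054700000aff80000fd98000048b600001f0a0000a55c00000bd00000ce040000008600006fc80000bda00000d7e00000032800000ea2 16 <|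
  .cons 0x8697ac4000000008b2de802000000007424fc3c00000000607109d200000000caa7512200000000a4097cc000000000145ffdc200000000a0e775140000000082e4be4000000000349ab62000000000b9002d6400000000b0c5483c00000000390c40c4000000001d2d4e580000000075a4a89e000000006c023ba80000000025e2b2d800000000a1b7f80200000000ff29079000000000b1e2af6a00000000a82fab60000000003a927d980000000052be0170000000000885f582000000008dbbae680000000068efd22600000000d09904000000000098888f86000000008df6a1fa00000000a41f61e6000000002eaab4fe00000000f3f92158 32 <|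
  .cons 0xe73c2fa5125547e80000000000000000b229f1983bda3e820000000000000000a0bd31a3bbc157b600000000000000000441aac37b12d5980000000000000000acb1f453289c34a800000000000000006d64aa876115a0ee0000000000000000d7e90334061c20280000000000000000c3e89f4e170a34a20000000000000000bdf2423c598e2ea4000000000000000048f018a634b1e98600000000000000008a0fc9dcff68fea0000000000000000042bb76c87402234c0000000000000000d26e10b2f69947c400000000000000009caa228dce5951a40000000000000000488d90dc1b05fcda00000000000000009afa9655a9b821cc 64 <|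
  .cons 0x87d4ec523294806b656e7b943c2248a40000000000000000000000000000000041ecdaa4bb0e71a85cedb3a756fc75d0000000000000000000000000000000004a25db8f6d2e43fe1a473eb1daa97202000000000000000000000000000000001f1093f8e3faa02abffd5c86cd23bd1000000000000000000000000000000000e17ba9854a096762f0c74eecbf1416860000000000000000000000000000000009ab093faef2728e19fdfddd3532344000000000000000000000000000000000ff43adb43cfd900e491ba2ca2a03d0ca00000000000000000000000000000000cc9f0a9321d97032f86340f737eb5a24 128 <|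
  .cons 0x9e0ae2974d685c5cabc6ae149737905281562d7af8f756189194edf63098e09c000000000000000000000000000000000000000000000000000000000000000020fa659b09f428de1cfa7a79ffa8455ff3effe6844a87fa082b83e52040981a400000000000000000000000000000000000000000000000000000000000000004ec8d7f5bad8734771856831679d6c9b8e1d4503f03b447b509ad6af7623bae800000000000000000000000000000000000000000000000000000000000000000dfe29e23cf4f7090146bd1f8385e2989d4022f50b1d07363688e0a746020204 256 <|
  .cons 0x5675fccd4c61d8999c95f20f06243b3ea7c5745d97c323c44edebf759c7a28790aae894d822e773bbb454bff61edbe315c65867a4cf1cdaf7210868246bdcfb000000000000000000000000000000000000000000000000000000000000000000000000000000000000000000000000000000000000000000000000000000000812bde066601071e852d7d5e4342a3291fce7667cd4627b8b46e131f357b8092ae96b2ea32e0118ef48a018d78b537b02647fae7f835c0c3dee8e0194ed0108a 512 <|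
  .cons 0xae12f12fb05a1a604cbce6023ef39a4d1751d6dd554d767b4818326186776b62f454eca92933f7eac3b2cc22b4061517aac7280cd77bab2d2f4d9d77ecc72393331505022490474bb48000fe53824df6f1c9ddfd67276ec6412e1d19f228553e269ae79af6d59af932d6a2ace927cbd701a76bb0147f254f903c359bb05e80c8 1024 <|
  .nil

/-- network of an element of order 8 -/
noncomputable def c0N : Net :=
  .cons 0x50aee0593ddb4d5469a8ec933c0b4d2b1f6516c701103af0a71b7492f34d926fb7291f8717141a198e8690ac9512bee407567e6869b322270ac7113b18a41e6cbd1f7f8c0555716aceae10e8bfb0baf16822ca4b063fac26dc218441480a2f36ef0467c49f5691d07db391b072164566cfd4f0abe71c14b399f8b6228f978d36 1024 <|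
  .cons 0xb2c8fdb70abc02923321e549ba3e0835d2104ea0532365293e58a7567abb81dfb3647975eebdc3d3f0f092d3e9a76e48e578c6ff3eba8ebe0e9062e3540c358400000000000000000000000000000000000000000000000000000000000000000000000000000000000000000000000000000000000000000000000000000000662092c9913f4f66dad1ac61dd0271968e3bc45c9af3a9a1f1ec9ed857a1b4c6c3a48fd83745e7ff121420df61e65675fd50a817a546b02a031c372a4c8b0724 512 <|
  .cons 0xc156323293197ffca61d90e34c34f878ce680c29bfb3c3be1edd50c82195adb10000000000000000000000000000000000000000000000000000000000000000279a8f37427fae64c90c8f4bb615f1e01dd8fd05570dfaccdf30c2a8a80ae4c800000000000000000000000000000000000000000000000000000000000000008a55d54bfb2042ea899b007505bf70aab70273f6c14351597d67eefa1703c020000000000000000000000000000000000000000000000000000000000000000022bcd64fc7ba1197bcc5648c4e53ebe964a6a942a831dda27fc55e4a93f7c143 256 <|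
  .cons 0xd5609b3d60b10a730f044e9c5267026700000000000000000000000000000000fc7c352126fcad3b9e92df4cdbba9f1a000000000000000000000000000000003e1856b55ead317cb89ea86e50032c8200000000000000000000000000000000c38985c6f99752a208742c463f13b29200000000000000000000000000000000156a0cda0423c40374947ffbc6e2e59e000000000000000000000000000000006cdb2c10aba61cc2785f8b4c9422635e00000000000000000000000000000000c965798f2349b999b6b605b7ebd498c9000000000000000000000000000000002fc81b8b594c6c3f48d2b32cc63c7d3d 128 <|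
  .cons 0xb9605964cd4801c70000000000000000851ce99c12baf8680000000000000000bc13bf0ed8826f590000000000000000218a4c2fd4c8499600000000000000003a8b688f0854a359000000000000000042f0520854ca30640000000000000000991eeec6af64e1de00000000000000008ca7e36420470a46000000000000000045ed9f1b7b81e4fe0000000000000000e78628acc187a1e00000000000000000cc7cd70fbdf733980000000000000000a819b66199e2a34c000000000000000081052396c279561d00000000000000006d30058affe939120000000000000000cfb3ba26099526b00000000000000000bcb399831c628d7e 64 <|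
  .cons 0xf8037364000000004c650ed500000000179419b0000000006125406000000000d18052a6000000009b3d4e2d0000000054b7b06b0000000009b8aec5000000008c8f6202000000003c0ba07700000000ca1a13fe00000000c0b6900a000000007122346a0000000084df614c000000005021fbc400000000b4cad8bc0000000055b4ba33000000007b2f90b600000000da0337fc000000003e5392be00000000dfa5363200000000ea89df16000000008a0490d300000000372bd2b5000000008a3d95070000000090da71dd0000000032696fc80000000080ea2ba600000000fcd31b4d00000000d7d94b7b000000004cfe0cb500000000fe7047ec 32 <|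
  .cons 0xd7e30000292000006a1300003d0800009d390000312400005cbc00004fd6000052300000d3bc00009c3800002c3900000587000020b2000029a30000a6e10000208600004b880000bbda00009249000055060000f12600002f0e0000a6410000c6d70000b91a000071640000385100002b19000048bb000039a00000bc480000f7830000948900007c2d00000a1c00004e880000a3f800008cf0000021dc00004c78000043ea000083cd0000cdea000054eb0000ead00000d9dc0000b1350000ccba0000e39b0000057a0000c25d0000a77b0000778700007c940000a7c20000664000004ee30000e68f00000a3500004fb20000f05700000188000062c2 16 <|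
  .cons 0x8c00fa00660060004600c8007800f8000e0005000d00d000c5004800770031007f0037001b00960074009d00e000c400a700c500b4001c0008008000e500af001800e10010006500ae0026002100f8002700ee00a2000e004e0094002f00c8002100bf004a005a00dc000600ca006e009600e900c70023003a0013001900db00fa001d009600d0002a0083007800c80050007400e300d00031006f005c002600b2001600040065004800c00058002e007c0087001f008400c900f100350096007b00fe00df0011009800be003600fc0006009800d600470038002200a2003200d8002000bd0044005d003c0098000300a40098001a00da0046003a00180002 8 <|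
  .cons 0xc0b060e0b060c08070008010b050e040806040308010604020e000403060a0300040004060f0009060a0f0d0b07000e02000c080e0e060c0a060a050d080a0d04030d0d030408000d03020e090c02060d03070e0000020a0a06050700060600060107020b0a0c050f000c05090d000a090f00020f01070806090d050c09000a03090c050d000c0e0000010e01050a02050b0e0e0e02020f040d0d0500050602080207020c05020b09090e0f0106080a0a07080609050c050b06010a030208080c0205040a02020b0b0e0106020d01050b0e0a090a0109070c0a0500080e02080d08060e0f09040a0605080e04000801050c0e0b02050e00050b00080a080b09 4 <|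
  .cons 0x1010202121030210121002333330110003102100301302220310220100102200022313201100200012331213122302100120110123122133001210100212010012221210012132002033011333230331301032001123110202132030113220121023220133203103221233322210021033102022331002022021330221210020233302203212232300123000021213203002332210201032123031023220020303003212132020130212000301000220212022320210330220323303000010023113202300300030122233032013320330321322022130220023030111002221212222010232203022221312101101132000201122010232300022200022231 2 <|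
  .cons 0x41514110111040115410141101451010001015041115554051410114500111005041441414010411511444115014500010514004104101114014440114004441041011041404454114400144154104455105404504504150004414041050440140411105501044011114401105105000151451054040110440511011410155014041115444101411100114440440441441114044014141541010550011414150454444444441451410144014411054414045440401414500444414111041011441145405100401041404054041400414415141514544444104014054040414415411545145154144001410051510541140010410044104441441141010440101 1 <|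
  .cons 0x2200202000000000020202202000000020020000002000200202000022000000002200020200022220000020000000000000000000000022220002002020002020000002000022000220202200000200002002002200002020000000220200000200002002002000200000200000000002002020020000020002020000000020020202202222200200020020202002020020000000020020000000020200002002202220200220002002222000200000000202220000220222222002022000000200000200002002002022000200200022000002020002000000020000200002020200000202002220000000002020020020002002020022222020020202 2 <|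
  .cons 0x20c0408080a0808020404080000060200020c0600000c0c040208020602020802000002060e0000040e080c0e040c0402040c080e0e02000a0e08060e00000c080a0c0a00000406000600080404080208000400060c060a08020206000600080604040a00020c0400080800020800000802000e0e0000000806080604080802080c0a0a0c0004080400040000020c06000004080c02020000040004040c06000e000404000c00000c00040e0c0e020204060004080400000006040a040a00000a02000a0a060202000008060a08080c0c08000002080c0e040a0c020c080a02080802040a000206000c000e0c00000806080c0a02060400060c0a000a080808 4 <|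
  .cons 0x8c007c0042007800c80074007a000c0096003e0020004400e400d000320032001a000200180086007000c400a800c4003600d000500090005000820022008000b000a0000800e8005c0084003000640018009800aa007400000048001a0044004000ba0080005c00700096001a001c009c000000f6001200ce00a400f00072005000c00080000a000600c6006800c400580024008000e000e800ce00c8005600ac0030002c008200200062005000c6007600c40040008400dc00680056000200500018005c00200096009a000600040070001c00d40006000800160050005800e800440080008c005c00e800c800c400b00098003a00b2000800a80040000a 8 <|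
  .cons 0xb3c800005f000000a43e0000ec5600009e10000020240000c44800006ed4000035340000d19e00008a1800006428000097800000719800006350000081020000601e000013880000bd28000034d00000c7300000a0480000c58600008aca000064d80000ab000000f14c00008054000032540000293e0000793000009ce0000006980000920c0000e00800000f0c000012bc0000ebd2000005420000e0c800003dae00004afa0000c36c0000f9ac0000166c0000b0d4000000080000305600000bf20000e3a0000021140000035c000089a40000ab9800004e940000ce060000029000004d740000e64c00006b64000057940000b0420000156000008808 16 <|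
  .cons 0x7015172c000000009805d634000000008eb506f00000000041b60ca000000000cbb4111200000000ed1eb3b000000000c6107a380000000000fbe8b4000000009917034a00000000c6ce68ec00000000e104c9e2000000006cbff22c000000007332783600000000058f61fe0000000011e0aac40000000098825c4400000000413b7b7000000000360b10500000000093c31794000000002392023e00000000b1dfd510000000004e89f5de00000000c8c68ef2000000007538d624000000008e3c9d2a00000000115460b4000000009be2b4ce000000009dda6a3400000000df4a1d68000000009e9160e400000000cef87e80000000000a26ce9c 32 <|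
  .cons 0xeb401da965172df000000000000000009409a14e33aa40d4000000000000000024129f5ec9912d40000000000000000070a1877dc106045400000000000000007b13ff9c2e186d18000000000000000062f5de042e8a686400000000000000000f1c1c538b3c5ef400000000000000000d65c3dd04c7c212000000000000000090ef1355298e039a00000000000000002b77aacc417780b8000000000000000064144f004ff571100000000000000000e20cbf18480521080000000000000000803b01b4ec6bd7800000000000000000dd8397c238dd9a680000000000000000feb6fa1b1838b66a00000000000000003aa1c8b1de60bd56 64 <|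
  .cons 0xc74c897fd62133632c001f5e9072137c000000000000000000000000000000003a5c285567a8a32a8fbb3c1950549d1c0000000000000000000000000000000035b0fce471a5e348f038e67c274fa0c0000000000000000000000000000000000f21374ef1d7db57690b48432f324cb8000000000000000000000000000000001c4a8cd6c60748283891d3bac7e12498000000000000000000000000000000002e52a8692b5a1766a0af1c0c05b271cc000000000000000000000000000000004829f0b46371389d870710bd67e459a8000000000000000000000000000000007d5e4e99f7ad2e3f9ea478fdc65c7128 128 <|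
  .cons 0xf15cc781b450792ec794d0b1ee34b5438c7c54aabf92e74e05d793583b082d5a00000000000000000000000000000000000000000000000000000000000000003f2b2d3657b57b0509b4bf5ca7dc570800794a187ed5724add209e930b0754c400000000000000000000000000000000000000000000000000000000000000008b45d4ee6911b307c51e3b3889dd817af112b7ba0741317e8dc3e1634ba28524000000000000000000000000000000000000000000000000000000000000000022b6bd79ed3eb187baff640eac5ef34d847c7a4ad49bcdb12136fc60376dce72 256 <|
  .cons 0xe2487da6073d07c27ba9ed5bae3f451ed21048e452337549194aa3561ab383f927551d918949514681e9996c0793a72919d9a7533428affd3f9448f9e83ce6640000000000000000000000000000000000000000000000000000000000000000000000000000000000000000000000000000000000000000000000000000000047718a6f933bed644c97be0ddff65352aea38454a619aca0a14895fc5f31b0d6cbc24d0abb2297e304a08e7f9cad1df871a7a64c433fccde0b0e83f11b4dfc98 512 <|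
  .cons 0x50aee0593ddb4d5469a8ec933c0b4d2b1f6516c701103af0a71b7492f34d926fb716d70d423c18ff81fd0a82e4cef800998d91837509a524266887ecbfa9d7db6a66cccde658528d9a7d475b08570ad90fe63eb5d0145bb4b51dfce89c51a3e45dceeac3b0efe0788da697b93207e8d43763113aaa1983f56532aa1fc39c9898 1024 <|
  .nil

/-- network on 252 points -/
noncomputable def gP : Net :=
  .cons 0x859045f2abff0f80c1696eeb135e8a80 128 <|
  .cons 0x38f876210e5f3d7e0000000000000000d50b08b827b08e75 64 <|
  .cons 0x5a82f2c50000000059953c3800000000d949d1b00000000040dd3e69 32 <|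
  .cons 0x2ad5000050d50000409d0000d74b00008502000056880000f4ac0000bb8a 16 <|
  .cons 0xa300a9003d00ce00060082006d00c0002e00540057006200ac001100c300c8 8 <|
  .cons 0x30f080f010a060a09050005000b040d040a09030102080d0c0a08010c0c0303 4 <|
  .cons 0x1031210030013123032233221023013102121203131212101202233003113122 2 <|
  .cons 0x4104445044101404014141141405441514504044144445444511145444041141 1 <|
  .cons 0x2200200020200002020220200000222000000022000000202020220020002020 2 <|
  .cons 0x604060202080e00080000040c0a0004040c060802040e0a000a080202080802 4 <|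
  .cons 0x4400960054004e004c00900022000200d400360094006c0060006c008c0066 8 <|
  .cons 0x4e800000c44c00009f32000010ec0000ba9400002b600000c05200009aae 16 <|
  .cons 0xd768591600000000561882ac0000000019b6e7e80000000028a16548 32 <|
  .cons 0xb77ae51e92dc946a0000000000000000c13afe66985f751a 64 <|
  .cons 0x817d11c44fae6dae6a25733fc8136220 128 <|
  .nil

/-- network on 252 points -/
noncomputable def zP : Net :=
  .cons 0x77073bb20d711344a204a8b8b190328 128 <|
  .cons 0xfab1e63ee75fadfe00000000000000002a0efbfb80639310 64 <|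
  .cons 0xd46ce09a000000007b98e14300000000576684a400000000058b0500 32 <|
  .cons 0xb7200009dff0000a798000082a7000053070000ac1100004270000065d4 16 <|
  .cons 0x76003000ed00730053004800d8008c00f400d8000800e000b700d4008c0006 8 <|
  .cons 0xd020d090b020d0e0402020c050a0b000c050305080d0e0804080e0f0f0b0c00 4 <|
  .cons 0x1212131033221201031102312201023022311230122233201021323000131322 2 <|
  .cons 0x1154410441440101445404411401141014410515144105111500544441114004 1 <|
  .cons 0x2002000020020002200200222202002002000000002000200000000222000002 2 <|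
  .cons 0xc040e0402000a0c000a040800020200040a0c0e08040200080400060008040c 4 <|
  .cons 0x100054002000a000120008005c007c00b0009a0006007a00e20084006a003c 8 <|
  .cons 0xf05800004a8e000084c400008b100000b7cc000062740000aff40000fae2 16 <|
  .cons 0x946e75b0000000007659597400000000f711f01e0000000098fc0440 32 <|
  .cons 0xfb71fe2b4d893cc000000000000000000246639bf8e49e00 64 <|
  .cons 0x7334e87930598c08dc2c468400518c0 128 <|
  .nil

/-- coset representatives as words: binary digits after the leading one, first letter = last digit -/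
def codes : List ℕ := [1, 3, 7, 6, 15, 14, 13, 12, 31, 30, 29, 28, 27, 26, 25, 63, 62, 61, 60, 59, 58, 55, 54, 53, 52, 51, 50, 127, 126, 125, 124, 123, 122, 121, 119, 118, 117, 116, 111, 110, 109, 108, 107, 106, 105, 103, 102, 101, 100, 254, 253, 252, 251, 250, 249, 247, 246, 245, 244, 243, 239, 238, 237, 236, 235, 234, 233, 223, 222, 221, 220, 217, 215, 214, 213, 212, 211, 207, 206, 204, 203, 202, 201, 508, 507, 505, 503, 502, 501, 500, 499, 498, 495, 494, 492, 490, 489, 487, 486, 479, 478, 477, 476, 474, 473, 471, 467, 466, 446, 445, 444, 443, 442, 441, 435, 434, 431, 430, 428, 426, 425, 423, 422, 415, 414, 413, 412, 407, 406, 404, 403, 402, 1017, 1014, 1011, 1010, 1007, 1006, 1003, 1001, 998, 991, 988, 981, 980, 974, 972, 957, 956, 955, 954, 949, 948, 947, 946, 943, 942, 935, 933, 893, 892, 891, 890, 885, 883, 870, 868, 863, 862, 857, 851, 850, 847, 831, 828, 826, 825, 814, 812, 809, 807, 806, 805, 804, 2035, 2034, 2029, 2028, 2022, 2021, 2020, 2015, 2007, 2006, 2003, 2002, 1997,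 1982, 1977, 1963, 1962, 1961, 1915, 1913, 1911, 1910, 1909, 1894, 1893, 1892, 1885, 1884, 1867, 1866, 1787, 1771, 1770, 1741, 1727, 1657, 1653, 1652, 1651, 1625, 1615, 4069, 4068, 4058, 4044, 4043, 4042, 4041, 4030, 4015, 4006, 3964, 3827, 3823, 3821, 3820, 3787, 3786, 3785, 3735, 3543, 3483, 3454, 3306, 8083, 8082, 7655, 7575]

/-- the action of a generator on the cosets -/
def eG : List (ℕ × ℕ × ℕ) := [(1, 0, 0), (2, 0, 0), (4, 0, 0), (6, 0, 0), (8, 0, 0), (10, 0, 0), (12, 0, 0), (14, 0, 0), (15, 0, 0), (17, 0, 0), (19, 0, 0), (5, 2, 3), (21, 0, 0), (23, 0, 0), (25, 0, 0), (27, 0, 0), (29, 0, 0), (31, 0, 0), (33, 0, 0), (34, 0, 0), (36, 0, 0), (38, 0, 0), (40, 0, 0), (42, 0, 0), (44, 0, 0), (45, 0, 0), (47, 0, 0), (0, 0, 0), (50, 0, 0), (52, 0, 0), (54, 0, 0), (55, 0, 0), (57, 0, 0), (59, 0, 0), (60, 0, 0), (62, 0, 0), (64, 0, 0), (66, 0, 0), (67, 0, 0), (69, 0, 0), (39, 2, 1), (71, 0, 0), (72, 0, 0), (74, 0, 0), (76, 0, 0), (77, 0, 0), (20, 1, 5), (80, 0, 0), (82, 0, 0), (3, 0,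 3), (84, 0, 0), (85, 0, 0), (86, 0, 0), (88, 0, 0), (90, 0, 0), (92, 0, 0), (65, 0, 6), (58, 2, 4), (96, 0, 0), (97, 0, 0), (99, 0, 0), (101, 0, 0), (41, 0, 5), (104, 0, 0), (105, 0, 0), (22, 1, 4), (106, 0, 0), (49, 0, 5), (109, 0, 0), (111, 0, 0), (113, 0, 0), (114, 0, 0), (116, 0, 0), (103, 0, 0), (89, 1, 4), (120, 0, 0), (121, 0, 0), (123, 0, 0), (125, 0, 0), (26, 1, 0), (127, 0, 0), (128, 1, 4), (130, 0, 0), (132, 0, 0), (32, 0, 2), (134, 0, 0), (136, 0, 0), (94, 2, 4), (138, 0, 0), (139, 0, 0), (137, 1, 4), (83, 0, 7), (141, 0, 0), (81, 1, 3), (43, 2, 3), (143, 0, 0), (28, 1, 2), (140, 1, 4), (142, 0, 2), (11, 2, 5), (147, 0, 0), (149, 0, 0), (46, 2, 3), (151, 0, 0), (153, 0, 0), (155, 0, 0), (157, 0, 0), (158, 0, 0), (159, 0, 0), (161, 0, 0), (118, 0, 2), (56, 1, 5), (163, 0, 0), (164, 0, 0), (162, 0, 6), (95, 0, 5), (167, 0, 0), (100, 0, 5), (169, 0, 0), (16, 1, 1), (170, 0, 0), (172, 0, 0), (150, 2, 5), (173, 0, 0), (160, 0, 2), (79, 0, 3), (176, 0, 0), (78, 1, 5), (152, 0,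 0), (179, 0, 0), (180, 0, 0), (182, 0, 0), (184, 0, 0), (186, 0, 0), (112, 0, 5), (189, 0, 0), (191, 0, 0), (165, 1, 0), (192, 0, 0), (194, 0, 0), (196, 0, 0), (177, 0, 6), (198, 0, 0), (199, 0, 0), (201, 0, 0), (110, 0, 6), (107, 0, 0), (202, 0, 0), (203, 0, 0), (204, 0, 0), (206, 0, 0), (135, 0, 3), (63, 2, 0), (93, 1, 1), (208, 0, 0), (102, 1, 0), (210, 0, 0), (98, 1, 1), (212, 0, 0), (214, 0, 0), (68, 2, 0), (205, 0, 0), (207, 1, 6), (215, 0, 0), (115, 2, 1), (217, 0, 0), (187, 2, 6), (218, 0, 0), (154, 0, 3), (193, 1, 7), (209, 0, 4), (18, 2, 1), (131, 2, 7), (7, 0, 0), (219, 0, 0), (220, 0, 0), (222, 0, 0), (9, 0, 2), (223, 0, 0), (174, 2, 1), (224, 0, 0), (126, 1, 3), (24, 2, 1), (108, 2, 3), (144, 2, 7), (225, 0, 0), (183, 1, 5), (53, 2, 5), (146, 1, 0), (229, 0, 0), (231, 0, 0), (119, 1, 7), (233, 0, 0), (227, 0, 0), (87, 1, 5), (48, 2, 2), (171, 0, 3), (117, 0, 6), (37, 1, 5), (70, 2, 2), (216, 1, 4), (226, 2, 4), (178, 2, 7), (236, 0, 0), (237, 0, 0), (238, 0, 0), (129,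 1, 7), (35, 1, 7), (240, 0, 0), (242, 0, 0), (232, 2, 4), (73, 2, 5), (243, 0, 0), (133, 0, 4), (213, 2, 4), (244, 0, 0), (230, 1, 1), (245, 0, 0), (13, 0, 0), (122, 0, 3), (75, 2, 4), (168, 1, 3), (156, 1, 7), (197, 1, 6), (228, 1, 6), (246, 1, 3), (91, 2, 6), (247, 2, 2), (195, 0, 0), (211, 2, 0), (148, 0, 7), (248, 0, 0), (181, 1, 2), (166, 0, 5), (190, 0, 7), (61, 0, 6), (250, 0, 0), (239, 2, 4), (124, 1, 6), (235, 1, 6), (251, 0, 0), (188, 2, 7), (175, 1, 0), (241, 0, 1), (51, 0, 3), (30, 1, 4), (234, 1, 6), (145, 0, 7), (185, 2, 0), (221, 2, 3), (200, 0, 4), (249, 1, 7)]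

/-- the action of a generator on the cosets -/
def eZ : List (ℕ × ℕ × ℕ) := [(0, 1, 0), (3, 0, 0), (5, 0, 0), (7, 0, 0), (9, 0, 0), (11, 0, 0), (13, 0, 0), (1, 0, 0), (16, 0, 0), (18, 0, 0), (20, 0, 0), (2, 0, 0), (22, 0, 0), (24, 0, 0), (26, 0, 0), (28, 0, 0), (30, 0, 0), (32, 0, 0), (4, 0, 0), (35, 0, 0), (37, 0, 0), (39, 0, 0), (41, 0, 0), (43, 0, 0), (6, 0, 0), (46, 0, 0), (48, 0, 0), (49, 0, 0), (51, 0, 0), (53, 0, 0), (8, 0, 0), (56, 0, 0), (58, 0, 0), (54, 2, 3), (61, 0, 0), (63, 0, 0), (65, 0, 0), (10, 0, 0), (68, 0, 0), (70, 0, 0), (40, 1, 0), (12, 0, 0), (73, 0, 0), (75, 0, 0), (66, 2, 3), (78, 0, 0), (79, 0, 0), (81, 0, 0), (14, 0, 0), (83, 0, 0), (69, 2, 3), (15, 0, 0), (87, 0, 0), (89, 0, 0), (91, 0, 0), (93, 0, 0), (94, 0, 0), (95, 0, 0), (17, 0, 0), (98, 0, 0), (100, 0, 0), (102, 0, 0), (103, 0, 0), (19, 0, 0), (36, 1, 7), (64, 1, 1), (107, 0, 0), (108, 0, 0), (110, 0, 0), (112, 0, 0), (21, 0, 0), (115, 0, 0), (117, 0, 0), (118, 0, 0), (119, 0, 0), (23, 0, 0), (122,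 0, 0), (124, 0, 0), (126, 0, 0), (25, 0, 0), (128, 0, 0), (129, 0, 0), (131, 0, 0), (27, 0, 0), (133, 0, 0), (135, 0, 0), (137, 0, 0), (113, 0, 5), (90, 1, 3), (29, 0, 0), (140, 0, 0), (33, 2, 5), (101, 1, 0), (142, 0, 0), (31, 0, 0), (144, 0, 0), (138, 1, 5), (145, 0, 0), (146, 0, 0), (130, 0, 2), (148, 0, 0), (150, 0, 0), (34, 0, 0), (152, 0, 0), (154, 0, 0), (156, 0, 0), (127, 2, 1), (44, 2, 5), (160, 0, 0), (162, 0, 0), (38, 0, 0), (86, 1, 0), (50, 2, 5), (52, 0, 3), (165, 0, 0), (166, 0, 0), (168, 0, 0), (167, 0, 5), (42, 0, 0), (123, 0, 4), (171, 0, 0), (116, 1, 0), (172, 2, 1), (74, 0, 4), (174, 0, 0), (175, 0, 0), (45, 0, 0), (177, 0, 0), (178, 0, 0), (47, 0, 0), (181, 0, 0), (183, 0, 0), (185, 0, 0), (187, 0, 0), (188, 0, 0), (190, 0, 0), (163, 2, 1), (111, 2, 0), (193, 0, 0), (195, 0, 0), (88, 1, 5), (197, 0, 0), (55, 0, 0), (200, 0, 0), (57, 0, 0), (151, 1, 0), (59, 0, 0), (109, 2, 5), (60, 0, 0), (205, 0, 0), (92, 2, 0), (97, 2, 0), (62, 0, 0), (207, 0, 0), (209, 0, 0),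 (203, 0, 6), (211, 0, 0), (194, 1, 4), (213, 0, 0), (139, 1, 3), (67, 0, 0), (208, 0, 6), (147, 2, 3), (216, 0, 0), (212, 0, 4), (196, 0, 5), (71, 0, 0), (72, 0, 3), (121, 2, 0), (158, 2, 7), (180, 2, 1), (182, 2, 3), (76, 2, 7), (192, 1, 3), (77, 0, 0), (221, 0, 0), (176, 1, 0), (106, 2, 7), (80, 0, 0), (179, 1, 0), (214, 1, 6), (99, 0, 6), (120, 2, 5), (82, 0, 0), (143, 1, 7), (226, 0, 0), (227, 0, 0), (84, 0, 0), (228, 0, 0), (230, 0, 0), (85, 0, 0), (232, 0, 0), (201, 1, 6), (96, 1, 3), (234, 0, 0), (159, 1, 5), (114, 0, 3), (235, 0, 0), (218, 1, 0), (164, 1, 1), (184, 1, 1), (173, 2, 7), (202, 1, 0), (219, 2, 3), (191, 1, 1), (239, 0, 0), (189, 2, 5), (222, 0, 2), (241, 0, 0), (104, 0, 0), (217, 2, 5), (105, 0, 0), (199, 1, 3), (169, 2, 1), (170, 0, 1), (240, 1, 2), (136, 2, 7), (237, 0, 0), (246, 0, 0), (155, 2, 7), (247, 0, 0), (125, 0, 0), (153, 0, 6), (236, 2, 6), (223, 2, 3), (186, 0, 1), (132, 0, 0), (225, 0, 7), (134, 0, 0), (220, 1, 7), (206, 2, 3), (249, 0, 0), (204,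 1, 7), (233, 1, 0), (157, 2, 4), (141, 0, 0), (224, 1, 7), (210, 2, 3), (231, 0, 3), (149, 0, 0), (251, 1, 4), (161, 0, 2), (242, 2, 0), (243, 2, 0), (245, 1, 4), (250, 2, 4), (198, 2, 0), (229, 1, 1), (248, 2, 0), (238, 0, 5), (244, 0, 0), (215, 1, 2)]

/-- certificate -/
def cert : List (ℕ × ℕ) := [(1, 28), (2, 63), (14, 148), (30, 154), (28, 51), (46, 3), (54, 61), (38, 100), (38, 154), (58, 28), (58, 100), (42, 24), (60, 18), (60, 20), (44, 154), (52, 110), (110, 70), (118, 83), (86, 100), (124, 28), (108, 5), (254, 20), (174, 73), (246, 37), (246, 70), (246, 185), (186, 108), (210, 53), (146, 48), (188, 61), (302, 154), (358, 18), (314, 37), (330, 7), (466, 68), (380, 28), (316, 53), (412, 20), (500, 0), (308, 53), (830, 24), (814, 70), (742, 35), (742, 75), (682, 26), (682, 30), (658, 122), (764, 70), (668, 24), (660, 43), (1406, 37), (1662, 5), (1342, 185), (1374, 51), (1518, 43), (1454, 3), (1206, 108), (1530, 61), (1722, 83), (1722, 108), (1706, 185), (1226, 0), (1660, 18),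 (1524, 51), (1652, 0), (2020, 126), (2430, 22), (2430, 154), (2878, 26), (2398, 0), (2398, 100), (3572, 68), (7358, 43), (5470, 22), (8082, 83)]

end Cfsg.Agent.H359.Rec.SuzNets
end

-- part: H359/Rec/SuzGeo
section
set_option linter.all false
open scoped Cfsg.Agent.FastGrp

/-!
The subgroup `U3(3)` of the centralizer of an element of class 3A of the Suzuki group, its coset graph on the 252 cosets
of a subgroup of order 24, and the certificate that the orbit sums of the elements of order 7 span the permutation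
module modulo 2.
-/

set_option autoImplicit false
set_option maxRecDepth 100000

namespace Cfsg.Agent.H359.Rec.SuzGeo

open Cfsg.Spor Cfsg.Agent.Lib.PermNet Cfsg.Agent.Lib.PermNetOrbit Cfsg.Agent.SporadicRecognition.SuzPhi
  Cfsg.Agent.SporadicRecognition.SuzBound Cfsg.Agent.SporadicRecognition.SuzOrder
  Cfsg.Agent.SuzThree.Nets Cfsg.Agent.SuzThree.Basic Cfsg.Agent.SuzThree.Elts
  Cfsg.Agent.SuzThree.Elementary Cfsg.Agent.H359.Rec.SuzNets

/-- Five singletons. -/
noncomputable def eq5 (w w' : List Net) : Bool :=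
  [14, 98, 1, 1575, 0].all fun q =>
    seqB (appWord w (Nat.pow 2 q)) fun x => seqB (appWord w' (Nat.pow 2 q)) fun y => Nat.beq x y

theorem eq_of_eq5 {g h : Suz} {w w' : List Net} (hg : Rep g w) (hh : Rep h w') (hc : eq5 w w' = true) :
    g = h := by
  have h1 : h * g⁻¹ = 1 := by
    apply eq_one_of_fix
    intro q hq
    have h2 := List.all_eq_true.1 hc q hq
    rw [seqB_eq, seqB_eq] at h2
    have h3 : appWord w (2 ^ q) = appWord w' (2 ^ q) := Nat.eq_of_beq_eq_true h2
    have h4 : wperm w ((φ g)⁻¹ q) = q := by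
      rw [← hg.eq]
      exact (φ g).apply_symm_apply q
    have h5 := testBit_appWord hg.ok (2 ^ q) ((φ g)⁻¹ q)
    have h6 := testBit_appWord hh.ok (2 ^ q) ((φ g)⁻¹ q)
    rw [h4, h3, h6, Nat.testBit_two_pow_self, Nat.testBit_two_pow] at h5
    have h7 : q = wperm w' ((φ g)⁻¹ q) := by simpa using h5
    rw [map_mul, map_inv, Equiv.Perm.mul_apply, hh.eq]
    exact h7.symm
  have h2 : h = g := by
    have := congrArg (· * g) h1
    simpa using this
  exact h2.symm

theorem g0N_ok : g0N.ok (2 ^ 11) = true := by decide +kernel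
theorem c0N_ok : c0N.ok (2 ^ 11) = true := by decide +kernel

/-- conjugates of `x1` -/
noncomputable def s1 : Suz := el [.d] * x .i1 * el [.d]
/-- conjugates of `x1` -/
noncomputable def s2 : Suz := el [.f] * x .i1 * el [.f]
/-- element of order 7 -/
noncomputable def g0 : Suz := x .i1 * s2 * s1
/-- element of order 8 -/
noncomputable def c0 : Suz := s1 * x .i1 * s2 * x .i1 * s1 * s2

theorem rep_s1 : Rep s1 (wd [.d] ++ [xN .i1] ++ wd [.d]) := ((Rep.el [.d]).mul (rep_x .i1)).mul (Rep.el [.d])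
theorem rep_s2 : Rep s2 (wd [.f] ++ [xN .i1] ++ wd [.f]) := ((Rep.el [.f]).mul (rep_x .i1)).mul (Rep.el [.f])

theorem rep_g0 : Rep g0 [g0N] := by
  have h1 := ((rep_x .i1).mul rep_s2).mul rep_s1
  have h2 : WOk (2 ^ 11) [g0N] := WOk.cons g0N_ok (WOk.nil _)
  exact ⟨h2, h1.eq.trans (wperm_eq_of_checkEq h1.ok h2 (by decide +kernel))⟩

theorem rep_c0 : Rep c0 [c0N] := by
  have h1 := ((((rep_s1.mul (rep_x .i1)).mul rep_s2).mul (rep_x .i1)).mul rep_s1).mul rep_s2
  have h2 : WOk (2 ^ 11) [c0N] := WOk.cons c0N_ok (WOk.nil _)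
  exact ⟨h2, h1.eq.trans (wperm_eq_of_checkEq h1.ok h2 (by decide +kernel))⟩

theorem rep_g7 : Rep (g0 ^ 7) [g0N, g0N, g0N, g0N, g0N, g0N, g0N] := by
  have h := rep_g0
  have e : g0 ^ 7 = g0 * (g0 * (g0 * (g0 * (g0 * (g0 * g0))))) := by simp only [pow_succ, pow_zero, one_mul, mul_assoc]
  rw [e]
  exact h.mul (h.mul (h.mul (h.mul (h.mul (h.mul h)))))

theorem rep_c8 : Rep (c0 ^ 8) [c0N, c0N, c0N, c0N, c0N, c0N, c0N, c0N] := by
  have h := rep_c0
  have e : c0 ^ 8 = c0 * (c0 * (c0 * (c0 * (c0 * (c0 * (c0 * c0)))))) := by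
    simp only [pow_succ, pow_zero, one_mul, mul_assoc]
  rw [e]
  exact h.mul (h.mul (h.mul (h.mul (h.mul (h.mul (h.mul h))))))

theorem g0_pow : g0 ^ 7 = 1 := eq_of_eq5 rep_g7 Rep.one (by decide +kernel)
theorem c0_pow : c0 ^ 8 = 1 := eq_of_eq5 rep_c8 Rep.one (by decide +kernel)

theorem g0_comm : x .i0 * g0 = g0 * x .i0 :=
  eq_of_eq5 ((rep_x .i0).mul rep_g0) (rep_g0.mul (rep_x .i0)) (by decide +kernel)

theorem c0_comm : x .i0 * c0 = c0 * x .i0 :=
  eq_of_eq5 ((rep_x .i0).mul rep_c0) (rep_c0.mul (rep_x .i0)) (by decide +kernel)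

theorem c0_norm : x .i1 * c0 * x .i1 = c0 :=
  eq_of_eq5 (((rep_x .i1).mul rep_c0).mul (rep_x .i1)) rep_c0 (by decide +kernel)

theorem g0_ne : g0 ≠ 1 := by
  intro h
  have h1 : Rep 1 [g0N] := h ▸ rep_g0
  have h2 : wperm [g0N] = wperm [] := by rw [← h1.eq, ← Rep.one.eq]
  have h3 := congrArg (fun p => p 1) h2
  rw [← ptWord_eq h1.ok, ← ptWord_eq (WOk.nil (2 ^ 11))] at h3
  exact absurd h3 (by decide +kernel)

theorem orderOf_g0 : orderOf g0 = 7 := by
  haveI : Fact (Nat.Prime 7) := ⟨by norm_num⟩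
  exact orderOf_eq_prime g0_pow g0_ne

theorem orderOf_xg : orderOf (x .i0 * g0) = 21 := by
  have h : Commute (x .i0) g0 := g0_comm
  rw [h.orderOf_mul_eq_mul_orderOf_of_coprime (by rw [orderOf_x, orderOf_g0]; decide), orderOf_x, orderOf_g0]

/-- decode a word -/
def dec : ℕ → ℕ → List Bool
  | 0, _ => []
  | k + 1, n => if Nat.ble n 1 then [] else Nat.beq (n % 2) 1 :: dec k (n / 2)

/-- the generators -/
noncomputable def gen (b : Bool) : Suz := if b then g0 else x .i1

/-- the networks of the generators -/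
noncomputable def gnet (b : Bool) : Net := Bool.rec (xN .i1) g0N b

/-- value of a word -/
noncomputable def ev (w : List Bool) : Suz := (w.map gen).prod

/-- networks of a word -/
noncomputable def nw (w : List Bool) : List Net := w.map gnet

theorem rep_gen (b : Bool) : Rep (gen b) [gnet b] := by
  cases b
  · exact rep_x .i1
  · exact rep_g0

theorem rep_ev (w : List Bool) : Rep (ev w) (nw w) := by
  induction w with
  | nil => exact Rep.one
  | cons b w ih => exact (rep_gen b).mul ih

theorem rep_pow {g : Suz} {L : Net} (h : Rep g [L]) (n : ℕ) : Rep (g ^ n) (List.replicate n L) := by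
  induction n with
  | zero => rw [pow_zero]; exact Rep.one
  | succ n ih => rw [pow_succ']; exact h.mul ih

/-- the table of a generator -/
def tab (b : Bool) : List (ℕ × ℕ × ℕ) := if b then eG else eZ

/-- representatives -/
noncomputable def R (j : ℕ) : Suz := ev (dec 13 (codes.getD j 1))

/-- the action on the indices -/
def act (b : Bool) (j : ℕ) : ℕ := ((tab b).getD j (0, 0, 0)).1

/-- the exponents -/
def ea (b : Bool) (j : ℕ) : ℕ := ((tab b).getD j (0, 0, 0)).2.1
/-- the exponents -/
def eb (b : Bool) (j : ℕ) : ℕ := ((tab b).getD j (0, 0, 0)).2.2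

/-- one edge -/
noncomputable def chk (b : Bool) (j : ℕ) : Bool :=
  eq5 (gnet b :: nw (dec 13 (codes.getD j 1)))
    (nw (dec 13 (codes.getD (act b j) 1)) ++ (List.replicate (ea b j) (xN .i1) ++ List.replicate (eb b j) c0N))

/-- a range of edges -/
noncomputable def chkR (b : Bool) (s n : ℕ) : Bool :=
  Nat.rec (motive := fun _ => Bool) true (fun k ih => and (chk b (s + k)) ih) n

theorem chkR_spec {b : Bool} {s n : ℕ} (h : chkR b s n = true) : ∀ k < n, chk b (s + k) = true := by
  induction n with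
  | zero => intro k hk; omega
  | succ n ih =>
    have h' : and (chk b (s + n)) (chkR b s n) = true := h
    rw [Bool.and_eq_true] at h'
    intro k hk
    rcases Nat.lt_succ_iff_lt_or_eq.1 hk with hk | rfl
    · exact ih h'.2 k hk
    · exact h'.1

theorem edge_of_chk {b : Bool} {j : ℕ} (h : chk b j = true) :
    gen b * R j = R (act b j) * (x .i1 ^ ea b j * c0 ^ eb b j) :=
  eq_of_eq5 ((rep_gen b).mul (rep_ev _)) ((rep_ev _).mul ((rep_pow (rep_x .i1) _).mul (rep_pow rep_c0 _))) h

end Cfsg.Agent.H359.Rec.SuzGeo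
end

-- part: H359/Rec/SuzEdges
section
set_option linter.all false
open scoped Cfsg.Agent.FastGrp

set_option autoImplicit false
set_option maxRecDepth 100000

namespace Cfsg.Agent.H359.Rec.SuzEdges

open Cfsg.Spor Cfsg.Agent.Lib.PermNet Cfsg.Agent.SuzThree.Elts Cfsg.Agent.SuzThree.Elementary
  Cfsg.Agent.H359.Rec.SuzNets Cfsg.Agent.H359.Rec.SuzGeo

private noncomputable def nthR {α : Type} (l : List α) (d : α) : ℕ → α :=
  List.rec (motive := fun _ => ℕ → α) (fun _ => d) (fun a _ ih n => Nat.rec (motive := fun _ => α) a (fun m _ => ih m) n) l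

private theorem nthR_eq {α : Type} (d : α) : ∀ (l : List α) (n : ℕ), l.getD n d = nthR l d n
  | [], _ => rfl
  | _ :: _, 0 => rfl
  | _ :: l, n + 1 => nthR_eq d l n

private noncomputable def eqF (w w' : List Net) : Bool :=
  [14, 98, 1, 1575, 0].all fun q => Nat.beq (Lib.PermNetFast.winvF w q) (Lib.PermNetFast.winvF w' q)

private theorem eq5_of {w w' : List Net} (h : WOk (2 ^ 11) w) (h' : WOk (2 ^ 11) w') (hc : eqF w w' = true) : eq5 w w' = true :=
  List.all_eq_true.2 fun q hq => by
    have e := Nat.eq_of_beq_eq_true (List.all_eq_true.1 hc q hq)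
    rw [← Lib.PermNetFast.winv_fast, Lib.PermNetPt.winv_eq h, Lib.PermNetPt.winv_eq h'] at e
    have e2 : appWord w (2 ^ q) = appWord w' (2 ^ q) := Nat.eq_of_testBit_eq fun p => by
      rw [testBit_appWord h, testBit_appWord h', Nat.testBit_two_pow, Nat.testBit_two_pow, decide_eq_decide,
        ← Equiv.Perm.inv_eq_iff_eq, ← Equiv.Perm.inv_eq_iff_eq, e]
    rw [seqB_eq, seqB_eq]
    exact e2 ▸ Nat.beq_refl _

open Lib.PermNetFast Lib.PermNetPt in
private noncomputable def wB (w : List Bool) : (ℕ → ℕ) → ℕ → ℕ :=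
  List.rec (motive := fun _ => (ℕ → ℕ) → ℕ → ℕ) (fun k => k)
    (fun b _ ih k p => force (Bool.rec (motive := fun _ => ℕ) (invF (xN .i1) p) (invF g0N p) b) (ih k)) w

open Lib.PermNetFast Lib.PermNetPt in
private theorem wB_eq (v : List Net) : ∀ w : List Bool, winvF (nw w ++ v) = wB w (winvF v)
  | [] => rfl
  | b :: w => by
    show (fun p => force (invF (gnet b) p) (winvF (nw w ++ v))) = fun p =>
      force (Bool.rec (motive := fun _ => ℕ) (invF (xN .i1) p) (invF g0N p) b) (wB w (winvF v))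
    rw [wB_eq v w]
    cases b <;> rfl

open Lib.PermNetFast Lib.PermNetPt in
private noncomputable def rp (L : Net) (n : ℕ) (k : ℕ → ℕ) : ℕ → ℕ :=
  Nat.rec (motive := fun _ => ℕ → ℕ) k (fun _ ih p => force (invF L p) ih) n

open Lib.PermNetFast Lib.PermNetPt in
private theorem rp_eq (L : Net) (v : List Net) : ∀ n : ℕ, winvF (List.replicate n L ++ v) = rp L n (winvF v)
  | 0 => rfl
  | n + 1 => by
    show (fun p => force (invF L p) (winvF (List.replicate n L ++ v))) = fun p => force (invF L p) (rp L n (winvF v))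
    rw [rp_eq L v n]

private noncomputable def chkF (b : Bool) (j : ℕ) : Bool :=
  [14, 98, 1, 1575, 0].all fun q => Nat.beq (wB (b :: dec 13 (nthR codes 1 j)) (fun p => p) q)
    (wB (dec 13 (nthR codes 1 (nthR (tab b) (0, 0, 0) j).1))
      (rp (xN .i1) (nthR (tab b) (0, 0, 0) j).2.1 (rp c0N (nthR (tab b) (0, 0, 0) j).2.2 fun p => p)) q)

private theorem chk_of {b : Bool} {j : ℕ} (h : chkF b j = true) : chk b j = true := by
  refine eq5_of ((rep_gen b).mul (rep_ev _)).ok ((rep_ev _).mul ((SuzGeo.rep_pow (rep_x .i1) _).mul (SuzGeo.rep_pow rep_c0 _))).ok ?_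
  delta act ea eb eqF
  rw [nthR_eq, nthR_eq, nthR_eq, wB_eq, rp_eq, ← List.append_nil (List.replicate _ c0N), rp_eq,
    show ∀ w, gnet b :: nw w = nw (b :: w) ++ [] from fun w => (List.append_nil _).symm, wB_eq]
  exact h

private noncomputable def allF (n : ℕ) : Bool :=
  Nat.rec (motive := fun _ => Bool) true (fun k ih => Bool.rec (motive := fun _ => Bool) false
    (Bool.rec (motive := fun _ => Bool) false ih (chkF false k)) (chkF true k)) n

private theorem allF_spec {n : ℕ} (h : allF n = true) (b : Bool) : ∀ k < n, chkF b k = true := by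
  induction n with
  | zero => exact fun _ h => absurd h (Nat.not_lt_zero _)
  | succ n ih =>
    have h1 : Bool.rec (motive := fun _ => Bool) false
      (Bool.rec (motive := fun _ => Bool) false (allF n) (chkF false n)) (chkF true n) = true := h
    cases e : chkF true n
    · rw [e] at h1
      exact absurd h1 Bool.false_ne_true
    · cases e' : chkF false n
      · rw [e, e'] at h1
        exact absurd h1 Bool.false_ne_true
      · rw [e, e'] at h1
        intro i hi
        rcases Nat.lt_succ_iff_lt_or_eq.1 hi with h2 | rfl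
        · exact ih h1 i h2
        · cases b
          exacts [e', e]

private theorem all_ok : allF 252 = true := by decide +kernel

private theorem chkR_of (b : Bool) (s : ℕ) : ∀ n, s + n ≤ 252 → chkR b s n = true
  | 0, _ => rfl
  | n + 1, h => Bool.and_eq_true_iff.2 ⟨chk_of (allF_spec all_ok b _ h), chkR_of b s n (Nat.le_of_succ_le h)⟩

theorem et0 : chkR true 0 126 = true := chkR_of _ _ _ (by decide)
theorem et1 : chkR true 126 126 = true := chkR_of _ _ _ (by decide)
theorem ef0 : chkR false 0 126 = true := chkR_of _ _ _ (by decide)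
theorem ef1 : chkR false 126 126 = true := chkR_of _ _ _ (by decide)

theorem chk_all (b : Bool) (j : ℕ) (hj : j < 252) : chk b j = true := by
  cases b
  · by_cases h : j < 126
    · simpa using chkR_spec ef0 j h
    · have := chkR_spec ef1 (j - 126) (by omega)
      rwa [show 126 + (j - 126) = j by omega] at this
  · by_cases h : j < 126
    · simpa using chkR_spec et0 j h
    · have := chkR_spec et1 (j - 126) (by omega)
      rwa [show 126 + (j - 126) = j by omega] at this

theorem edge (b : Bool) (j : ℕ) (hj : j < 252) : gen b * R j = R (act b j) * (x .i1 ^ ea b j * c0 ^ eb b j) :=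
  edge_of_chk (chk_all b j hj)

end Cfsg.Agent.H359.Rec.SuzEdges
end

-- part: H359/Rec/SuzMod
section
set_option linter.all false
open scoped Cfsg.Agent.FastGrp

/-!
A module of characteristic 2 for the Suzuki group on which an element of order 21 acts fixed-point-freely: no vector is
fixed by two commuting elements of class 3A and a suitable element of order 8.
-/

set_option autoImplicit false
set_option maxRecDepth 100000

namespace Cfsg.Agent.H359.Rec.SuzMod

open Cfsg.Spor Cfsg.Agent.Lib.PermNet Cfsg.Agent.SuzThree.Elts Cfsg.Agent.SuzThree.Elementary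
  Cfsg.Agent.H359.Rec.SuzNets Cfsg.Agent.H359.Rec.SuzGeo Cfsg.Agent.H359.Rec.SuzEdges

/-- networks on the cosets -/
noncomputable def pnet (b : Bool) : Net := Bool.rec zP gP b

theorem pnet_ok (b : Bool) : (pnet b).ok 256 = true := by
  cases b
  · show zP.ok 256 = true
    decide +kernel
  · show gP.ok 256 = true
    decide +kernel

/-- check of the permutation -/
noncomputable def pchk (b : Bool) : Bool := (List.range 252).all fun j =>
  and (and (Nat.blt (act b j) 252) (Nat.beq ((pnet b).pt (act b j)) j))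
    (and (Nat.blt ((pnet b).pt j) 252) (Nat.beq (act b ((pnet b).pt j)) j))

theorem pchk_all (b : Bool) : pchk b = true := by
  cases b
  · decide +kernel
  · decide +kernel

theorem pchk_spec (b : Bool) {j : ℕ} (hj : j < 252) :
    act b j < 252 ∧ (pnet b).perm (act b j) = j ∧ (pnet b).perm j < 252 ∧ act b ((pnet b).perm j) = j := by
  have h := List.all_eq_true.1 (pchk_all b) j (List.mem_range.2 hj)
  simp only [Bool.and_eq_true] at h
  obtain ⟨⟨h1, h2⟩, h3, h4⟩ := h
  rw [Net.pt_eq (pnet_ok b)] at h2 h3 h4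
  exact ⟨Nat.blt_eq.mp h1, Nat.eq_of_beq_eq_true h2, Nat.blt_eq.mp h3, Nat.eq_of_beq_eq_true h4⟩

variable {W : Type*} [AddCommGroup W]

/-- the vector of a mask -/
noncomputable def rho (y : ℕ → W) (m : ℕ) : W := ∑ j ∈ Finset.range 252, if m.testBit j then y j else 0

theorem rho_zero (y : ℕ → W) : rho y 0 = 0 := by simp [rho]

theorem rho_xor (h2 : ∀ w : W, w + w = 0) (y : ℕ → W) (m n : ℕ) : rho y (m ^^^ n) = rho y m + rho y n := by
  unfold rho
  rw [← Finset.sum_add_distrib]
  apply Finset.sum_congr rfl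
  intro j _
  rw [Nat.testBit_xor]
  cases m.testBit j <;> cases n.testBit j <;> simp [h2]

theorem rho_one (y : ℕ → W) : rho y 1 = y 0 := by
  unfold rho
  have h : ∀ j ∈ Finset.range 252, (if (1 : ℕ).testBit j then y j else 0) = if j = 0 then y j else 0 := by
    intro j _
    by_cases hj : j = 0
    · subst hj; simp
    · rw [if_neg hj, if_neg]
      rw [← pow_zero 2, Nat.testBit_two_pow]
      simpa using fun h => hj h.symm
  rw [Finset.sum_congr rfl h, Finset.sum_ite_eq']
  simp

/-- orbit sums -/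
noncomputable def iter : ℕ → ℕ → ℕ
  | 0, _ => 0
  | k + 1, m => m ^^^ iter k (gP.app m)

/-- the sum of a certificate -/
noncomputable def tot : List (ℕ × ℕ) → ℕ
  | [] => 0
  | a :: l => appWord ((dec 13 a.1).map pnet) (iter 7 (2 ^ a.2)) ^^^ tot l

theorem tot_cert : tot cert = 1 := by decide +kernel

variable [DistribMulAction Suz W]

theorem gen_rho {y : ℕ → W} (hy : ∀ b j, j < 252 → gen b • y j = y (act b j)) (b : Bool) (m : ℕ) :
    gen b • rho y m = rho y ((pnet b).app m) := by
  unfold rho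
  rw [Finset.smul_sum]
  refine Finset.sum_nbij' (fun j => act b j) (fun j => (pnet b).perm j) ?_ ?_ ?_ ?_ ?_
  · intro j hj
    exact Finset.mem_range.2 (pchk_spec b (Finset.mem_range.1 hj)).1
  · intro j hj
    exact Finset.mem_range.2 (pchk_spec b (Finset.mem_range.1 hj)).2.2.1
  · intro j hj
    exact (pchk_spec b (Finset.mem_range.1 hj)).2.1
  · intro j hj
    exact (pchk_spec b (Finset.mem_range.1 hj)).2.2.2
  · intro j hj
    have hj' := Finset.mem_range.1 hj
    rw [testBit_app (pnet_ok b), (pchk_spec b hj').2.1]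
    cases m.testBit j
    · simp
    · simp [hy b j hj']

/-- sum over the powers -/
noncomputable def itW : ℕ → W → W
  | 0, _ => 0
  | k + 1, w => w + itW k (g0 • w)

theorem rho_iter (h2 : ∀ w : W, w + w = 0) {y : ℕ → W} (hy : ∀ b j, j < 252 → gen b • y j = y (act b j)) (k m : ℕ) :
    rho y (iter k m) = itW k (rho y m) := by
  induction k generalizing m with
  | zero => exact rho_zero y
  | succ k ih =>
    show rho y (m ^^^ iter k (gP.app m)) = rho y m + itW k (g0 • rho y m)
    rw [rho_xor h2, ih]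
    congr 2
    exact (gen_rho hy true m).symm

theorem itW_seven (w : W) : g0 • itW 7 w = itW 7 w := by
  have h : g0 • g0 • g0 • g0 • g0 • g0 • g0 • w = w := by
    have e : g0 • g0 • g0 • g0 • g0 • g0 • g0 • w = g0 ^ 7 • w := by
      simp only [pow_succ, pow_zero, one_mul, mul_smul]
    rw [e, g0_pow, one_smul]
  simp only [itW, smul_add, smul_zero]
  rw [h]
  abel

theorem x_itW {w : W} (h : x .i0 • w = w) (k : ℕ) : x .i0 • itW k w = itW k w := by
  induction k generalizing w with
  | zero => exact smul_zero _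
  | succ k ih =>
    show x .i0 • (w + itW k (g0 • w)) = w + itW k (g0 • w)
    rw [smul_add, h, ih]
    rw [← mul_smul, g0_comm, mul_smul, h]

theorem x_gen (b : Bool) : x .i0 * gen b = gen b * x .i0 := by
  cases b
  · exact c01
  · exact g0_comm

theorem x_ev (l : List Bool) : x .i0 * ev l = ev l * x .i0 := by
  induction l with
  | nil => simp [ev]
  | cons b l ih =>
    have e : ev (b :: l) = gen b * ev l := by simp [ev]
    rw [e, ← mul_assoc, x_gen, mul_assoc, ih, mul_assoc]

theorem key (h2 : ∀ w : W, w + w = 0) (hN : ∀ w : W, (x .i0 * g0) • w = w → w = 0) {v : W}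
    (h0 : x .i0 • v = v) (h1 : x .i1 • v = v) (hc : c0 • v = v) : v = 0 := by
  set y : ℕ → W := fun j => R j • v with hyd
  have hpow : ∀ {g : Suz}, g • v = v → ∀ n : ℕ, g ^ n • v = v := by
    intro g hg n
    induction n with
    | zero => simp
    | succ n ih => rw [pow_succ, mul_smul, hg, ih]
  have hy : ∀ b j, j < 252 → gen b • y j = y (act b j) := by
    intro b j hj
    show gen b • R j • v = R (act b j) • v
    rw [← mul_smul, edge b j hj, mul_smul, mul_smul, hpow hc, hpow h1]
  have hx : ∀ m, x .i0 • rho y m = rho y m := by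
    intro m
    unfold rho
    rw [Finset.smul_sum]
    apply Finset.sum_congr rfl
    intro j _
    cases m.testBit j
    · simp
    · simp only [if_true]
      show x .i0 • R j • v = R j • v
      rw [← mul_smul, R, x_ev, mul_smul, h0]
  have horb : ∀ m, rho y (iter 7 m) = 0 := by
    intro m
    rw [rho_iter h2 hy]
    apply hN
    rw [mul_smul, itW_seven, x_itW (hx m)]
  have happ : ∀ (l : List Bool) (m : ℕ), rho y m = 0 → rho y (appWord (l.map pnet) m) = 0 := by
    intro l
    induction l with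
    | nil => intro m hm; exact hm
    | cons b l ih =>
      intro m hm
      rw [List.map_cons, appWord_cons]
      apply ih
      rw [← gen_rho hy, hm, smul_zero]
  have htot : ∀ l, rho y (tot l) = 0 := by
    intro l
    induction l with
    | nil => exact rho_zero y
    | cons a l ih =>
      show rho y (appWord ((dec 13 a.1).map pnet) (iter 7 (2 ^ a.2)) ^^^ tot l) = 0
      rw [rho_xor h2, ih, happ _ _ (horb _), add_zero]
  have h3 := htot cert
  rw [tot_cert, rho_one] at h3
  have h4 : R 0 = 1 := rfl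
  have h5 : R 0 • v = 0 := h3
  rwa [h4, one_smul] at h5

end Cfsg.Agent.H359.Rec.SuzMod

private theorem dce_c830207fa604 : _root_.True := by
  try have : _root_.True := by simp only [_root_.Cfsg.Agent.H359.Rec.SuzGeo.ev.eq_1]
  try have : _root_.True := by simp only [_root_.Cfsg.Agent.H359.Rec.SuzMod.rho.eq_1]
  try have : _root_.True := by simp only [_root_.Cfsg.Agent.H359.Rec.SuzMod.itW.eq_1]
  try have : _root_.True := by simp only [_root_.Cfsg.Agent.H359.Rec.SuzMod.itW.eq_2]
  try have : _root_.True := by simp only [_root_.Cfsg.Agent.H359.Rec.SuzMod.itW.eq_def]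
  try have : _root_.True := by simp only [_root_.Cfsg.Agent.H359.Rec.SuzGeo.R.eq_1]
  exact _root_.True.intro
end

-- part: H359/Rec/SuzHyp
section
set_option linter.all false
open scoped Cfsg.Agent.FastGrp

/-!
The elementary abelian subgroup of order 3^5 of the Suzuki group in a module of characteristic 2: some nonzero vector is
fixed by two of the eleven special subgroups.
-/

set_option autoImplicit false
set_option maxRecDepth 100000

namespace Cfsg.Agent.H359.Rec.SuzHyp

open Cfsg.Spor Cfsg.Agent.SuzThree.Elts Cfsg.Agent.SuzThree.Elementary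
open Cfsg.Agent.SuzThree.NormElts hiding act
open Cfsg.Agent.SuzThree.FourTrans hiding ev
open Cfsg.Agent.H359.Rec.SuzGeo hiding ev nw act

variable {W : Type*} [AddCommGroup W] [DistribMulAction Suz W]

theorem add3 (c : V) : c + c + c = 0 := three_nsmul_V c

/-- the stabiliser of a vector -/
noncomputable def stab (w : W) : Submodule (ZMod 3) V where
  carrier := {a | E a • w = w}
  add_mem' := by
    intro a b ha hb
    show E (a + b) • w = w
    rw [E_add, mul_smul, show E b • w = w from hb]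
    exact ha
  zero_mem' := by
    show E 0 • w = w
    rw [E_zero, one_smul]
  smul_mem' := by
    intro c a ha
    have ha' : E a • w = w := ha
    show E (c • a) • w = w
    fin_cases c
    · show E ((0 : ZMod 3) • a) • w = w
      rw [zero_smul, E_zero, one_smul]
    · show E ((1 : ZMod 3) • a) • w = w
      rw [one_smul]; exact ha
    · show E ((2 : ZMod 3) • a) • w = w
      rw [two_smul, E_add, mul_smul, ha', ha']

/-- norm -/
noncomputable def nm (c : V) (w : W) : W := w + E c • w + E (c + c) • w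

theorem E_nm (c : V) (w : W) : E c • nm c w = nm c w := by
  unfold nm
  rw [smul_add, smul_add, ← mul_smul, ← mul_smul, ← E_add, ← E_add, ← add_assoc, add3, E_zero, one_smul]
  abel

theorem stab_le_nm (c : V) (w : W) : stab w ≤ stab (nm c w) := by
  intro a ha
  have ha' : E a • w = w := ha
  show E a • nm c w = nm c w
  unfold nm
  rw [smul_add, smul_add, ha', ← mul_smul, E_comm, mul_smul, ha', ← mul_smul, E_comm a (c + c), mul_smul, ha']

/-- The norm identity. -/
theorem norm_id (h2 : ∀ w : W, w + w = 0) {a b : V} {w : W} (ha : nm a w = 0) (hb : nm b w = 0)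
    (hc : nm (a + b) w = 0) (hd : nm (a + (b + b)) w = 0) : w = 0 := by
  have h1 : E b • nm a w = 0 := by rw [ha, smul_zero]
  have h3 : E (b + b) • nm a w = 0 := by rw [ha, smul_zero]
  unfold nm at ha hb hc hd h1 h3
  rw [smul_add, smul_add, ← mul_smul, ← mul_smul, ← E_add, ← E_add] at h1 h3
  have e1 : a + b + (a + b) = a + a + (b + b) := by abel
  have e2 : a + (b + b) + (a + (b + b)) = (a + a + b) + (b + b + b) := by abel
  rw [add3, add_zero] at e2
  have e3 : b + a = a + b := by abel
  have e4 : b + (a + a) = a + a + b := by abel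
  have e5 : b + b + a = a + (b + b) := by abel
  have e6 : b + b + (a + a) = a + a + (b + b) := by abel
  rw [e1] at hc
  rw [e2] at hd
  rw [e3, e4] at h1
  rw [e5, e6] at h3
  -- w + sum of all = 0
  have hs : (w + E a • w + E (a + a) • w) + (w + E b • w + E (b + b) • w) +
      (w + E (a + b) • w + E (a + a + (b + b)) • w) + (w + E (a + (b + b)) • w + E (a + a + b) • w) +
      (w + E a • w + E (a + a) • w) +
      (E b • w + E (a + b) • w + E (a + a + b) • w) +
      (E (b + b) • w + E (a + (b + b)) • w + E (a + a + (b + b)) • w) = w := by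
    have : (w + E a • w + E (a + a) • w) + (w + E b • w + E (b + b) • w) +
      (w + E (a + b) • w + E (a + a + (b + b)) • w) + (w + E (a + (b + b)) • w + E (a + a + b) • w) +
      (w + E a • w + E (a + a) • w) +
      (E b • w + E (a + b) • w + E (a + a + b) • w) +
      (E (b + b) • w + E (a + (b + b)) • w + E (a + a + (b + b)) • w) =
      (w + w) + (w + w) + w + (E a • w + E a • w) + (E (a + a) • w + E (a + a) • w) + (E b • w + E b • w)
      + (E (b + b) • w + E (b + b) • w) + (E (a + b) • w + E (a + b) • w) +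
      (E (a + a + (b + b)) • w + E (a + a + (b + b)) • w) + (E (a + (b + b)) • w + E (a + (b + b)) • w)
      + (E (a + a + b) • w + E (a + a + b) • w) := by abel
    rw [this]
    simp only [h2, add_zero, zero_add]
  rw [ha, hb, hc, hd, h1, h3] at hs
  simpa using hs.symm

theorem exists_max [Finite W] (hne : ∃ w : W, w ≠ 0) :
    ∃ w : W, w ≠ 0 ∧ ∀ w' : W, w' ≠ 0 → stab w ≤ stab w' → stab w' ≤ stab w := by
  haveI : Nonempty {w : W // w ≠ 0} := ⟨⟨hne.choose, hne.choose_spec⟩⟩
  obtain ⟨w, hw⟩ := Finite.exists_max (fun w : {w : W // w ≠ 0} => Nat.card (stab w.1))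
  refine ⟨w.1, w.2, ?_⟩
  intro w' hw' hle
  have h1 := hw ⟨w', hw'⟩
  exact (SetLike.coe_injective (Set.eq_of_subset_of_ncard_le (s := (stab w.1 : Set V)) (t := (stab w' : Set V))
    hle h1 (Set.toFinite _))).ge

theorem step (h2 : ∀ w : W, w + w = 0) {w : W} (hw : w ≠ 0)
    (hm : ∀ w' : W, w' ≠ 0 → stab w ≤ stab w' → stab w' ≤ stab w) {a b : V} (ha : a ∉ stab w) :
    ∃ t : ZMod 3, b + t • a ∈ stab w := by
  by_contra hcon
  push Not at hcon
  have h0 : b ∉ stab w := by simpa using hcon 0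
  have h1 : a + b ∉ stab w := by
    intro h; apply hcon 1; rw [one_smul, add_comm]; exact h
  have h3 : a + (b + b) ∉ stab w := by
    intro h
    apply hcon 2
    have := (stab w).smul_mem 2 h
    have e : (2 : ZMod 3) • (a + (b + b)) = b + (2 : ZMod 3) • a := by
      rw [two_smul, two_smul]
      have e1 : a + (b + b) + (a + (b + b)) = (b + (a + a)) + (b + b + b) := by abel
      rw [e1, add3, add_zero]
    rwa [e] at this
  have kill : ∀ c : V, c ∉ stab w → nm c w = 0 := by
    intro c hc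
    by_contra hne
    exact hc (hm _ hne (stab_le_nm c w) (E_nm c w))
  exact hw (norm_id h2 (kill a ha) (kill b h0) (kill _ h1) (kill _ h3))

/-- pairing -/
def dot (u t : V) : ZMod 3 :=
  u.1 * t.1 + u.2.1 * t.2.1 + u.2.2.1 * t.2.2.1 + u.2.2.2.1 * t.2.2.2.1 + u.2.2.2.2 * t.2.2.2.2

theorem dot_all : ∀ t : V, ∃ i j : Ix, i ≠ j ∧ dot (vec i) t = 0 ∧ dot (vec j) t = 0 := by
  have h : ∀ a b c d e : ZMod 3, ∃ i : Ix, dot (vec i) (a, b, c, d, e) = 0 ∧
      ∃ j : Ix, dot (vec j) (a, b, c, d, e) = 0 ∧ i ≠ j := by decide +kernel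
  rintro ⟨a, b, c, d, e⟩
  obtain ⟨i, h1, j, h2, h3⟩ := h a b c d e
  exact ⟨i, j, h3, h1, h2⟩

theorem comb (u t a : V) : u + dot u t • a = u.1 • (vec .i0 + t.1 • a) + u.2.1 • (vec .i1 + t.2.1 • a) +
    u.2.2.1 • (vec .i2 + t.2.2.1 • a) + u.2.2.2.1 • (vec .i3 + t.2.2.2.1 • a) +
    u.2.2.2.2 • (vec .i4 + t.2.2.2.2 • a) := by
  obtain ⟨u0, u1, u2, u3, u4⟩ := u
  obtain ⟨t0, t1, t2, t3, t4⟩ := t
  obtain ⟨a0, a1, a2, a3, a4⟩ := a
  simp only [dot, vec, Prod.smul_mk, Prod.mk_add_mk, smul_eq_mul, Prod.mk.injEq]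
  refine ⟨?_, ?_, ?_, ?_, ?_⟩ <;> ring

theorem two_of (H : Submodule (ZMod 3) V) (hs : ∀ a b : V, a ∉ H → ∃ t : ZMod 3, b + t • a ∈ H) :
    ∃ i j : Ix, i ≠ j ∧ vec i ∈ H ∧ vec j ∈ H := by
  by_cases hall : ∀ a : V, a ∈ H
  · exact ⟨.i0, .i1, by decide, hall _, hall _⟩
  · push Not at hall
    obtain ⟨a, ha⟩ := hall
    obtain ⟨t0, h0⟩ := hs a (vec .i0) ha
    obtain ⟨t1, h1⟩ := hs a (vec .i1) ha
    obtain ⟨t2, h2⟩ := hs a (vec .i2) ha
    obtain ⟨t3, h3⟩ := hs a (vec .i3) ha
    obtain ⟨t4, h4⟩ := hs a (vec .i4) ha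
    have key : ∀ u : V, dot u (t0, t1, t2, t3, t4) = 0 → u ∈ H := by
      intro u hu
      have h := comb u (t0, t1, t2, t3, t4) a
      rw [hu, zero_smul, add_zero] at h
      rw [h]
      exact H.add_mem (H.add_mem (H.add_mem (H.add_mem (H.smul_mem _ h0) (H.smul_mem _ h1)) (H.smul_mem _ h2))
        (H.smul_mem _ h3)) (H.smul_mem _ h4)
    obtain ⟨i, j, hij, hi, hj⟩ := dot_all (t0, t1, t2, t3, t4)
    exact ⟨i, j, hij, key _ hi, key _ hj⟩

theorem exists_pair [Finite W] (h2 : ∀ w : W, w + w = 0) (hne : ∃ w : W, w ≠ 0) :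
    ∃ (w : W) (i j : Ix), w ≠ 0 ∧ i ≠ j ∧ x i • w = w ∧ x j • w = w := by
  obtain ⟨w, hw, hm⟩ := exists_max hne
  obtain ⟨i, j, hij, hi, hj⟩ := two_of (stab w) (fun a b ha => step h2 hw hm ha)
  refine ⟨w, i, j, hw, hij, ?_, ?_⟩
  · rw [x_eq]; exact hi
  · rw [x_eq]; exact hj

/-! ### Two-transitivity -/

theorem sp_ev (l : List Jx) : ∃ n : Suz, ∀ f, Sp n f (SuzThree.FourTrans.ev l f) := by
  induction l with
  | nil => exact ⟨1, fun f => sp_one f⟩
  | cons j l ih =>
    obtain ⟨n, hn⟩ := ih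
    exact ⟨SporadicRecognition.SuzOrder.el (SuzThree.NormElts.nw j) * n,
      fun f => sp_mul (hn f) (SuzThree.NormElts.act j _)⟩

theorem sg_surj (j : Jx) (g : Ix) : ∃ f, sg j f = g := by
  cases j <;> revert g <;> decide

theorem ev_surj (l : List Jx) (g : Ix) : ∃ f, SuzThree.FourTrans.ev l f = g := by
  induction l generalizing g with
  | nil => exact ⟨g, rfl⟩
  | cons j l ih =>
    obtain ⟨f, hf⟩ := sg_surj j g
    obtain ⟨f', hf'⟩ := ih f
    exact ⟨f', by show sg j (SuzThree.FourTrans.ev l f') = g; rw [hf', hf]⟩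

theorem fix_of_sp {n : Suz} {f g : Ix} (h : Sp n f g) {w : W} (hw : x g • w = w) : x f • (n⁻¹ • w) = n⁻¹ • w := by
  have hw' : (x g)⁻¹ • w = w := by rw [inv_smul_eq_iff, hw]
  have e : x f * n⁻¹ = n⁻¹ * (n * x f * n⁻¹) := by group
  rw [← mul_smul, e, mul_smul]
  rcases h with h | h
  · rw [h, hw]
  · rw [h, hw']

theorem exists_pair01 [Finite W] (h2 : ∀ w : W, w + w = 0) (hne : ∃ w : W, w ≠ 0) :
    ∃ w : W, w ≠ 0 ∧ x .i0 • w = w ∧ x .i1 • w = w := by
  obtain ⟨w, i, j, hw, hij, hi, hj⟩ := exists_pair h2 hne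
  obtain ⟨n, hn⟩ := sp_ev (tt0 i)
  obtain ⟨j', hj'⟩ := ev_surj (tt0 i) j
  have h3 : j' ≠ .i0 := by
    rintro rfl
    rw [lev0] at hj'
    exact hij hj'
  have h4 := fix_of_sp (show Sp n .i0 i by have := hn .i0; rwa [lev0] at this) hi
  have h5 := fix_of_sp (show Sp n j' j by have := hn j'; rwa [hj'] at this) hj
  obtain ⟨m, hm⟩ := sp_ev (tt1 j')
  have h6 := lev1 j' h3
  have h7 := fix_of_sp (show Sp m .i0 .i0 by have := hm .i0; rwa [h6.1] at this) h4
  have h8 := fix_of_sp (show Sp m .i1 j' by have := hm .i1; rwa [h6.2] at this) h5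
  refine ⟨m⁻¹ • n⁻¹ • w, ?_, h7, h8⟩
  intro h
  rw [inv_smul_eq_iff, smul_zero, inv_smul_eq_iff, smul_zero] at h
  exact hw h

/-! ### The element of order 8 -/

theorem exists_fixed (h2 : ∀ w : W, w + w = 0) {g : Suz} (P : W → Prop) (hadd : ∀ u v, P u → P v → P (u + v))
    (hg : ∀ u, P u → P (g • u)) {w : W} (hw : w ≠ 0) (hP : P w) (h : (g * g) • w = w) :
    ∃ u : W, u ≠ 0 ∧ P u ∧ g • u = u := by
  by_cases hz : w + g • w = 0
  · refine ⟨w, hw, hP, ?_⟩
    have h3 : w + w = w + g • w := by rw [h2, hz]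
    exact (add_left_cancel h3).symm
  · refine ⟨w + g • w, hz, hadd _ _ hP (hg _ hP), ?_⟩
    rw [smul_add, ← mul_smul, h, add_comm]

theorem exists_triple [Finite W] (h2 : ∀ w : W, w + w = 0) (hne : ∃ w : W, w ≠ 0) :
    ∃ w : W, w ≠ 0 ∧ x .i0 • w = w ∧ x .i1 • w = w ∧ c0 • w = w := by
  obtain ⟨w, hw, h0, h1⟩ := exists_pair01 h2 hne
  set P : W → Prop := fun w => x .i0 • w = w ∧ x .i1 • w = w with hPd
  have hadd : ∀ u v, P u → P v → P (u + v) := by
    intro u v hu hv
    exact ⟨by rw [smul_add, hu.1, hv.1], by rw [smul_add, hu.2, hv.2]⟩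
  have hc : ∀ u, P u → P (c0 • u) := by
    intro u hu
    refine ⟨by rw [← mul_smul, c0_comm, mul_smul, hu.1], ?_⟩
    have h3 : x .i1 • c0 • u = (x .i1 * c0 * x .i1) • u := by
      rw [mul_smul, mul_smul, hu.2]
    rw [h3, c0_norm]
  have hc2 : ∀ u, P u → P ((c0 * c0) • u) := fun u hu => by rw [mul_smul]; exact hc _ (hc _ hu)
  have hc4 : ∀ u, P u → P ((c0 * c0 * (c0 * c0)) • u) := fun u hu => by rw [mul_smul]; exact hc2 _ (hc2 _ hu)
  have h8 : (c0 * c0 * (c0 * c0) * (c0 * c0 * (c0 * c0))) • w = w := by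
    have e : c0 * c0 * (c0 * c0) * (c0 * c0 * (c0 * c0)) = c0 ^ 8 := by
      simp only [pow_succ, pow_zero, one_mul, mul_assoc]
    rw [e, c0_pow, one_smul]
  obtain ⟨w1, hw1, hP1, h9⟩ := exists_fixed h2 P hadd hc4 hw ⟨h0, h1⟩ h8
  obtain ⟨w2, hw2, hP2, h10⟩ := exists_fixed h2 P hadd hc2 hw1 hP1 h9
  obtain ⟨w3, hw3, hP3, h11⟩ := exists_fixed h2 P hadd hc hw2 hP2 h10
  exact ⟨w3, hw3, hP3.1, hP3.2, h11⟩

/-- An element of order 21 has fixed points on every nonzero module of characteristic 2. -/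
theorem main [Finite W] (h2 : ∀ w : W, w + w = 0) (hne : ∃ w : W, w ≠ 0) :
    ∃ w : W, w ≠ 0 ∧ (x .i0 * g0) • w = w := by
  by_contra hcon
  push Not at hcon
  obtain ⟨w, hw, h0, h1, hc⟩ := exists_triple h2 hne
  refine hw (SuzMod.key h2 (fun u hu => ?_) h0 h1 hc)
  by_contra hu0
  exact hcon u hu0 hu

end Cfsg.Agent.H359.Rec.SuzHyp

private theorem dce_f760ffb923f5 : _root_.True := by
  try have : _root_.True := by simp only [_root_.Cfsg.Agent.SuzThree.Elementary.vec.eq_1]
  try have : _root_.True := by simp only [_root_.Cfsg.Agent.SuzThree.Elementary.vec.eq_11]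
  try have : _root_.True := by simp only [_root_.Cfsg.Agent.SuzThree.Elementary.vec.eq_7]
  try have : _root_.True := by simp only [_root_.Cfsg.Agent.SuzThree.Elementary.vec.eq_9]
  try have : _root_.True := by simp only [_root_.Cfsg.Agent.SuzThree.Elementary.vec.eq_10]
  try have : _root_.True := by simp only [_root_.Cfsg.Agent.SuzThree.Elementary.vec.eq_3]
  try have : _root_.True := by simp only [_root_.Cfsg.Agent.H359.Rec.SuzHyp.dot.eq_1]
  try have : _root_.True := by simp only [_root_.Cfsg.Agent.SuzThree.Elementary.vec.eq_2]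
  try have : _root_.True := by simp only [_root_.Cfsg.Agent.SuzThree.Elementary.vec.eq_5]
  try have : _root_.True := by simp only [_root_.Cfsg.Agent.SuzThree.Elementary.vec.eq_6]
  try have : _root_.True := by simp only [_root_.Cfsg.Agent.SuzThree.Elementary.vec.eq_8]
  try have : _root_.True := by simp only [_root_.Cfsg.Agent.SuzThree.Elementary.vec.eq_4]
  exact _root_.True.intro
end

-- part: H359/Rec/SuzTwo
section
set_option linter.all false
open scoped Cfsg.Agent.FastGrp

/-!
Every element of order 21 of a certain class of the Suzuki group has nontrivial fixed points on every nontrivial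
elementary abelian 2-group with an action of the Suzuki group.
-/

set_option autoImplicit false

namespace Cfsg.Agent.H359.Rec.SuzTwo

open Cfsg Cfsg.Agent.SuzThree.Elts Cfsg.Agent.H359.Rec.SuzGeo

universe u v

theorem suz_two {S : Type u} [Group S] (hS : Spor.IsoSuz S) {V : Type v} [CommGroup V] [Finite V]
    [MulDistribMulAction S V] (h2 : ∀ x : V, x ^ 2 = 1) (h1 : ∃ x : V, x ≠ 1) :
    ∃ g : S, orderOf g = 21 ∧ ∃ x : V, x ≠ 1 ∧ g • x = x := by
  obtain ⟨e⟩ := hS
  letI : DistribMulAction Spor.Suz (Additive V) :=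
    { smul := fun s w => Additive.ofMul (e.symm s • w.toMul)
      one_smul := fun w => by
        show Additive.ofMul (e.symm 1 • w.toMul) = w
        rw [map_one, one_smul]; rfl
      mul_smul := fun s t w => by
        show Additive.ofMul (e.symm (s * t) • w.toMul) = Additive.ofMul (e.symm s • (e.symm t • w.toMul))
        rw [map_mul, mul_smul]
      smul_zero := fun s => by
        show Additive.ofMul (e.symm s • (1 : V)) = 0
        rw [smul_one]; rfl
      smul_add := fun s w w' => by
        show Additive.ofMul (e.symm s • (w.toMul * w'.toMul)) =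
          Additive.ofMul (e.symm s • w.toMul) + Additive.ofMul (e.symm s • w'.toMul)
        rw [smul_mul']; rfl }
  haveI : Finite (Additive V) := inferInstanceAs (Finite V)
  have hadd : ∀ w : Additive V, w + w = 0 := by
    intro w
    have h := h2 w.toMul
    rw [pow_two] at h
    exact congrArg Additive.ofMul h
  obtain ⟨x0, hx0⟩ := h1
  obtain ⟨w, hw, hf⟩ := SuzHyp.main hadd ⟨Additive.ofMul x0, fun h => hx0 (congrArg Additive.toMul h)⟩
  refine ⟨e.symm (x .i0 * g0), ?_, w.toMul, ?_, ?_⟩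
  · rw [MulEquiv.orderOf_eq, orderOf_xg]
  · intro h
    exact hw (congrArg Additive.ofMul h)
  · exact congrArg Additive.toMul hf

end Cfsg.Agent.H359.Rec.SuzTwo
end

-- part: H423/SpThree
section
set_option linter.all false
open scoped Cfsg.Agent.FastGrp

/-!
# Characteristic three: `A₅ × A₆` (helper423)
-/

set_option autoImplicit false
set_option linter.unusedSectionVars false

namespace Cfsg.Agent.H423.Sp.Three

open Finset

variable {X R : Type*} [Group X] [Ring R] (ρ : X →* R)

/-- the sum over the powers of an element of order five -/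
def P (f : X) : R := ∑ i ∈ range 5, ρ f ^ i

theorem P_eq (f : X) : P ρ f = 1 + ρ f + ρ (f ^ 2) + ρ (f ^ 3) + ρ (f ^ 4) := by
  simp [P, sum_range_succ]

variable {ρ}

theorem P_comm {f g : X} (h : f * g = g * f) : P ρ f * ρ g = ρ g * P ρ f := by
  have h1 : ∀ i : ℕ, ρ (f ^ i) * ρ g = ρ g * ρ (f ^ i) := by
    intro i
    rw [← map_mul, ← map_mul, ((show Commute f g from h).pow_left i).eq]
  have h2 := h1 1
  rw [pow_one] at h2
  rw [P_eq]
  simp only [add_mul, mul_add, h1, h2, one_mul, mul_one]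

theorem P_self {f : X} (hf : f ^ 5 = 1) : P ρ f * ρ f = P ρ f := by
  have h2 : ρ f * ρ f = ρ (f ^ 2) := by rw [← map_mul, ← pow_two]
  rw [P_eq]
  simp only [add_mul, one_mul, h2]
  simp only [← map_mul, ← pow_succ]
  rw [hf, map_one]
  abel

theorem P_conj (g f : X) : P ρ (g * f * g⁻¹) = ρ g * P ρ f * ρ g⁻¹ := by
  have h1 : ∀ i : ℕ, ρ ((g * f * g⁻¹) ^ i) = ρ g * ρ (f ^ i) * ρ g⁻¹ := by
    intro i
    rw [conj_pow, map_mul, map_mul]
  have h2 := h1 1
  rw [pow_one, pow_one] at h2
  have h3 : ρ g * ρ g⁻¹ = 1 := by rw [← map_mul, mul_inv_cancel, map_one]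
  rw [P_eq, P_eq, h2, h1, h1, h1]
  simp only [add_mul, mul_add, mul_one, h3]

/-- order three commuting with order five -/
theorem P_three {f d : X} (hf : f ^ 5 = 1) (hf1 : f ≠ 1) (hd : d ^ 3 = 1) (hd1 : d ≠ 1) (h : f * d = d * f)
    (h15 : ∀ x : X, orderOf x = 15 → ∑ i ∈ range 15, ρ x ^ i = 0) (g : X) :
    P ρ f * ρ g + P ρ f * ρ (d * g) + P ρ f * ρ (d ^ 2 * g) = 0 := by
  have o5 : orderOf f = 5 := by
    have := Fact.mk Nat.prime_five
    exact orderOf_eq_prime hf hf1
  have o3 : orderOf d = 3 := by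
    have := Fact.mk Nat.prime_three
    exact orderOf_eq_prime hd hd1
  have ho : orderOf (f * d) = 15 := by
    rw [(show Commute f d from h).orderOf_mul_eq_mul_orderOf_of_coprime (by rw [o5, o3]; norm_num), o5, o3]
  have h1 := h15 _ ho
  have h2 : ∀ i : ℕ, ρ (f * d) ^ i = ρ (f ^ (i % 5)) * ρ (d ^ (i % 3)) := by
    intro i
    rw [← map_pow, (show Commute f d from h).mul_pow, map_mul]
    have e1 : f ^ (i % 5) = f ^ i := by rw [← o5]; exact pow_mod_orderOf f i
    have e2 : d ^ (i % 3) = d ^ i := by rw [← o3]; exact pow_mod_orderOf d i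
    rw [e1, e2]
  simp only [sum_range_succ, sum_range_zero, h2] at h1
  norm_num at h1
  have h3 : P ρ f * (1 + ρ d + ρ d ^ 2) = 0 := by
    rw [P_eq, ← h1]
    simp only [map_pow]
    noncomm_ring
  have h4 := congrArg (fun z : R => z * ρ g) h3
  simp only [zero_mul] at h4
  rw [← h4, map_mul, map_mul, map_pow]
  noncomm_ring

/-- **the Klein four group of `A₄ = ⟨s, c⟩` acts trivially** -/
theorem P_four {f s c : X} (h3 : (3 : R) = 0) (hf : f ^ 5 = 1) (hf1 : f ≠ 1) (hs : s ^ 2 = 1) (hs1 : s ≠ 1) (hc : c ^ 3 = 1)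
    (hsc : (s * c) ^ 3 = 1) (h1 : f * s = s * f) (h2 : f * c = c * f)
    (h15 : ∀ x : X, orderOf x = 15 → ∑ i ∈ range 15, ρ x ^ i = 0) : P ρ f * ρ s = P ρ f := by
  have hss : s * s = 1 := by rw [← pow_two, hs]
  have hccc : c * c * c = 1 := by rw [← pow_three', hc]
  have hc1 : c ≠ 1 := by
    rintro rfl
    rw [mul_one, pow_succ, hs, one_mul] at hsc
    exact hs1 hsc
  have hci : c⁻¹ = c * c := by rw [eq_comm, ← mul_eq_one_iff_eq_inv, hccc]
  have hsi : s⁻¹ = s := by rw [eq_comm, ← mul_eq_one_iff_eq_inv, hss]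
  have r0 : s * c * s * c * s * c = 1 := by
    rw [pow_three'] at hsc
    rw [← hsc]
    simp only [mul_assoc]
  -- `s c s = c² s c²`
  have r1 : s * c * s = c * c * s * (c * c) := by
    have e1 : s * c * s = (s * c * s * c * s * c) * (c⁻¹ * s⁻¹ * c⁻¹) := by group
    rw [e1, r0, one_mul, hci, hsi]
  have hne : s * c ≠ 1 := by
    intro h
    have e1 : c = s := by
      calc c = s * s * c := by rw [hss, one_mul]
        _ = s * (s * c) := by group
        _ = s := by rw [h, mul_one]
    rw [e1, pow_succ, hs, one_mul] at hc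
    exact hs1 hc
  have hne2 : c * s ≠ 1 := by
    intro h
    apply hne
    calc s * c = s * (c * s) * s⁻¹ := by group
      _ = 1 := by rw [h]; group
  have hcs : (c * s) ^ 3 = 1 := by
    have e1 : (c * s) ^ 3 = s⁻¹ * (s * c) ^ 3 * s := by rw [pow_three', pow_three']; group
    rw [e1, hsc]; group
  have hfc : f * (c * s) = c * s * f := by rw [← mul_assoc, h2, mul_assoc, h1, ← mul_assoc]
  have hfs : f * (s * c) = s * c * f := by rw [← mul_assoc, h1, mul_assoc, h2, ← mul_assoc]
  have hd4 : (c * (c * s) * c⁻¹) ^ 3 = 1 := by rw [conj_pow, hcs]; group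
  have hd4n : c * (c * s) * c⁻¹ ≠ 1 := by
    intro h
    apply hne2
    calc c * s = c⁻¹ * (c * (c * s) * c⁻¹) * c := by group
      _ = 1 := by rw [h]; group
  have hf4 : f * (c * (c * s) * c⁻¹) = c * (c * s) * c⁻¹ * f := by
    have e1 : f * c⁻¹ = c⁻¹ * f := by
      calc f * c⁻¹ = c⁻¹ * (c * f) * c⁻¹ := by group
        _ = c⁻¹ * (f * c) * c⁻¹ := by rw [h2]
        _ = c⁻¹ * f := by group
    calc f * (c * (c * s) * c⁻¹) = (f * c) * (c * s) * c⁻¹ := by group
      _ = c * (f * (c * s)) * c⁻¹ := by rw [h2]; group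
      _ = c * (c * s) * (f * c⁻¹) := by rw [hfc]; group
      _ = _ := by rw [e1]; group
  have key : ∀ {d : X}, d ^ 3 = 1 → d ≠ 1 → f * d = d * f → ∀ g : X,
      P ρ f * ρ g + P ρ f * ρ (d * g) + P ρ f * ρ (d ^ 2 * g) = 0 := fun hd hd1 h g => P_three hf hf1 hd hd1 h h15 g
  have a1 := key hc hc1 h2 1
  have a2 := key hcs hne2 hfc 1
  have a3 := key hsc hne hfs 1
  have a4 := key hd4 hd4n hf4 1
  have b2 := key hc hc1 h2 s
  have b3 := key hc hc1 h2 (c * s * c⁻¹)
  have b4 := key hc hc1 h2 (c * c * s * c)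
  -- normal forms: `s, c s c², c² s c` and cosets
  have n1 : (c * s) ^ 2 * 1 = s * c ^ 2 := by
    have e1 : (c * s) ^ 2 * 1 = (c * s) ^ 3 * (s⁻¹ * c⁻¹) := by rw [pow_three', pow_two]; group
    rw [e1, hcs, one_mul, hci, hsi, pow_two]
  have n2 : (s * c) ^ 2 * 1 = c ^ 2 * s := by
    have e1 : (s * c) ^ 2 * 1 = (s * c) ^ 3 * (c⁻¹ * s⁻¹) := by rw [pow_three', pow_two]; group
    rw [e1, hsc, one_mul, hci, hsi, pow_two]
  have n3 : (c * (c * s) * c⁻¹) ^ 2 * 1 = c * s * c := by
    have e1 : (c * (c * s) * c⁻¹) ^ 2 * 1 = c * ((c * s) ^ 2 * 1) * c⁻¹ := by rw [pow_two, pow_two]; group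
    rw [e1, n1, hci]
    calc c * (s * c ^ 2) * (c * c) = c * s * c * (c * c * c) := by rw [pow_two]; group
      _ = _ := by rw [hccc, mul_one]
  have n4 : c * (c * s) * c⁻¹ * 1 = c ^ 2 * s * c ^ 2 := by rw [hci, pow_two]; group
  have n5 : c * s * c⁻¹ = c * s * c ^ 2 := by rw [hci, pow_two]
  have n6 : c * (c * s * c⁻¹) = c ^ 2 * s * c ^ 2 := by rw [hci, pow_two]; group
  have n7 : c ^ 2 * (c * s * c⁻¹) = s * c ^ 2 := by
    calc c ^ 2 * (c * s * c⁻¹) = (c * c * c) * s * c⁻¹ := by rw [pow_two]; group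
      _ = _ := by rw [hccc, one_mul, hci, pow_two]
  have n8 : c * (c * c * s * c) = s * c := by
    calc c * (c * c * s * c) = (c * c * c) * s * c := by group
      _ = _ := by rw [hccc, one_mul]
  have n9 : c ^ 2 * (c * c * s * c) = c * s * c := by
    calc c ^ 2 * (c * c * s * c) = (c * c * c) * c * s * c := by rw [pow_two]; group
      _ = _ := by rw [hccc, one_mul]
  rw [n1] at a2
  rw [n2] at a3
  rw [n3, n4] at a4
  rw [n7, n6, n5] at b3
  rw [n9, n8] at b4
  rw [mul_one] at a1 a2 a3
  have e0 : P ρ f * ρ s + P ρ f * ρ (c * s * c ^ 2) + P ρ f * ρ (c * c * s * c) = 3 * (P ρ f * ρ 1) := by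
    have t : (P ρ f * ρ s + P ρ f * ρ (c * s * c ^ 2) + P ρ f * ρ (c * c * s * c)) - 3 * (P ρ f * ρ 1) =
      ((P ρ f * ρ 1 + P ρ f * ρ c + P ρ f * ρ (c ^ 2 * 1)) +
      (P ρ f * ρ s + P ρ f * ρ (c * s) + P ρ f * ρ (c ^ 2 * s)) +
      (P ρ f * ρ (c * s * c ^ 2) + P ρ f * ρ (c ^ 2 * s * c ^ 2) + P ρ f * ρ (s * c ^ 2)) +
      (P ρ f * ρ (c * c * s * c) + P ρ f * ρ (s * c) + P ρ f * ρ (c * s * c))) -
      ((P ρ f * ρ 1 + P ρ f * ρ c + P ρ f * ρ (c ^ 2 * 1)) +
      (P ρ f * ρ 1 + P ρ f * ρ (c * s) + P ρ f * ρ (s * c ^ 2)) +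
      (P ρ f * ρ 1 + P ρ f * ρ (s * c) + P ρ f * ρ (c ^ 2 * s)) +
      (P ρ f * ρ 1 + P ρ f * ρ (c ^ 2 * s * c ^ 2) + P ρ f * ρ (c * s * c))) := by
        noncomm_ring
    rw [a1, a2, a3, a4, b2, b3, b4] at t
    rw [← sub_eq_zero, t]
    noncomm_ring
  rw [h3, zero_mul] at e0
  have e1 := congrArg (fun z : R => z * ρ s) e0
  simp only [add_mul, zero_mul, mul_assoc, ← map_mul] at e1
  have m1 : s * s = 1 := hss
  have m2 : c * (s * (c ^ 2 * s)) = c * c * s * c := by
    -- `s c² s = c s c`
    have e2 : s * (c * c) * s = c * s * c := by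
      have e3 : (s * c * s)⁻¹ = (c * c * s * (c * c))⁻¹ := by rw [r1]
      have e4 : (s * c * s)⁻¹ = s * (c * c) * s := by
        rw [mul_inv_rev, mul_inv_rev, hsi, hci]; group
      have e5 : (c * c * s * (c * c))⁻¹ = c * s * c := by
        apply inv_eq_of_mul_eq_one_right
        calc c * c * s * (c * c) * (c * s * c) = c * c * s * (c * c * c) * s * c := by group
          _ = c * c * (s * s) * c := by rw [hccc]; group
          _ = 1 := by rw [hss, mul_one, hccc]
      rw [← e4, e3, e5]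
    calc c * (s * (c ^ 2 * s)) = c * (s * (c * c) * s) := by rw [pow_two]; group
      _ = _ := by rw [e2]; group
  have m3 : c * (c * (s * (c * s))) = c * s * c ^ 2 := by
    calc c * (c * (s * (c * s))) = c * c * (s * c * s) := by group
      _ = (c * c * c) * c * s * (c * c) := by rw [r1]; group
      _ = _ := by rw [hccc, pow_two]; group
  rw [m1, m2, m3] at e1
  have e6 : P ρ f * ρ s - P ρ f * ρ 1 = 0 := by
    have t : P ρ f * ρ s - P ρ f * ρ 1 = (P ρ f * ρ s + P ρ f * ρ (c * s * c ^ 2) + P ρ f * ρ (c * c * s * c)) -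
      (P ρ f * ρ 1 + P ρ f * ρ (c * c * s * c) + P ρ f * ρ (c * s * c ^ 2)) := by abel
    rw [t, e0, e1, sub_zero]
  rw [sub_eq_zero, map_one, mul_one] at e6
  exact e6

/-- the elements acting trivially on the fixed space of `f` -/
def Fix (ρ : X →* R) (f : X) : Subgroup X where
  carrier := {g | P ρ f * ρ g = P ρ f}
  one_mem' := by
    change P ρ f * ρ 1 = P ρ f
    rw [map_one, mul_one]
  mul_mem' := by
    intro a b ha hb
    change P ρ f * ρ a = P ρ f at ha
    change P ρ f * ρ b = P ρ f at hb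
    change P ρ f * ρ (a * b) = P ρ f
    rw [map_mul, ← mul_assoc, ha, hb]
  inv_mem' := by
    intro a ha
    change P ρ f * ρ a = P ρ f at ha
    change P ρ f * ρ a⁻¹ = P ρ f
    have h1 : P ρ f * ρ a * ρ a⁻¹ = P ρ f := by rw [mul_assoc, ← map_mul, mul_inv_cancel, map_one, mul_one]
    rw [ha] at h1
    exact h1

theorem mem_Fix {f g : X} : g ∈ Fix ρ f ↔ P ρ f * ρ g = P ρ f := Iff.rfl

theorem P_mul_of_mem {u v : X} (h : u ∈ Fix ρ v) : P ρ v * P ρ u = 5 * P ρ v := by
  have h1 : ∀ i : ℕ, P ρ v * ρ (u ^ i) = P ρ v := fun i => mem_Fix.1 (Subgroup.pow_mem _ h i)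
  rw [P_eq ρ u]
  simp only [mul_add, mul_one, h1, mem_Fix.1 h]
  noncomm_ring

theorem five_cancel (h3 : (3 : R) = 0) {a b : R} (h : 5 * a = 5 * b) : a = b := by
  have h5 : (5 : R) = -1 := by
    have e1 : (5 : R) = 3 + 3 - 1 := by norm_num
    rw [e1, h3]; norm_num
  rw [h5, neg_one_mul, neg_one_mul] at h
  exact neg_injective h

theorem conj_mem (h3 : (3 : R) = 0) {v h t : X} (hv : h * v * h⁻¹ ∈ Fix ρ v) (ht : t ∈ Fix ρ v) : h * t * h⁻¹ ∈ Fix ρ v := by
  rw [mem_Fix] at ht ⊢
  have h1 := P_mul_of_mem hv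
  rw [P_conj] at h1
  have hh : ρ h⁻¹ * ρ h = 1 := by rw [← map_mul, inv_mul_cancel, map_one]
  apply five_cancel h3
  have h2 : 5 * (P ρ v * ρ (h * t * h⁻¹)) = 5 * P ρ v * ρ (h * t * h⁻¹) := (mul_assoc _ _ _).symm
  rw [h2, ← h1, map_mul, map_mul]
  calc P ρ v * (ρ h * P ρ v * ρ h⁻¹) * (ρ h * ρ t * ρ h⁻¹) = P ρ v * (ρ h * P ρ v * (ρ h⁻¹ * ρ h) * ρ t * ρ h⁻¹) := by
        noncomm_ring
    _ = P ρ v * (ρ h * (P ρ v * ρ t) * ρ h⁻¹) := by rw [hh]; noncomm_ring
    _ = _ := by rw [ht]

theorem P_zero_of_eleven (h3 : (3 : R) = 0) (h11 : ∀ x : X, orderOf x = 11 → ∑ i ∈ range 11, ρ x ^ i = 0) {v m : X}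
    (hm : orderOf m = 11) (h : m ∈ Fix ρ v) : P ρ v = 0 := by
  have h1 := congrArg (fun z => P ρ v * z) (h11 m hm)
  simp only [mul_zero] at h1
  have h2 : ∀ i : ℕ, P ρ v * ρ (m ^ i) = P ρ v := fun i => mem_Fix.1 (Subgroup.pow_mem _ h i)
  rw [mul_sum] at h1
  simp only [← map_pow, h2, sum_const, card_range] at h1
  have e11 : (11 : R) = -1 := by
    have e1 : (11 : R) = 3 + 3 + 3 + 3 - 1 := by norm_num
    rw [e1, h3]; norm_num
  have h4 : (11 : R) * P ρ v = 0 := by
    rw [← h1, nsmul_eq_mul]; norm_num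
  rw [e11, neg_one_mul, neg_eq_zero] at h4
  exact h4

theorem P_eq_P (h3 : (3 : R) = 0) {u v : X} (h : u * v = v * u) (hu : u ∈ Fix ρ v) (hv : v ∈ Fix ρ u) : P ρ u = P ρ v := by
  apply five_cancel h3
  rw [← P_mul_of_mem hu, ← P_mul_of_mem hv, P_eq ρ v]
  have h1 : ∀ i : ℕ, P ρ u * ρ (v ^ i) = ρ (v ^ i) * P ρ u := fun i =>
    P_comm ((show Commute u v from h).pow_right i).eq
  have h2 := h1 1
  rw [pow_one] at h2
  simp only [add_mul, mul_add, h1, h2, one_mul, mul_one]

theorem P_line {u v : X} (hv : v ^ 5 = 1) (h : u * v = v * u) (k : ℕ) :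
    P ρ (u * v ^ k) = 1 + ρ u * ρ v ^ (k % 5) + ρ u ^ 2 * ρ v ^ (2 * k % 5) + ρ u ^ 3 * ρ v ^ (3 * k % 5) +
      ρ u ^ 4 * ρ v ^ (4 * k % 5) := by
  have h1 : ∀ n : ℕ, ρ v ^ n = ρ v ^ (n % 5) := by
    intro n
    have hv' : ρ v ^ 5 = 1 := by rw [← map_pow, hv, map_one]
    conv_lhs => rw [← Nat.div_add_mod n 5, pow_add, pow_mul, hv', one_pow, one_mul]
  have h2 : ∀ i : ℕ, ρ ((u * v ^ k) ^ i) = ρ u ^ i * ρ v ^ (i * k % 5) := by
    intro i
    rw [((show Commute u v from h).pow_right k).mul_pow, map_mul, map_pow, map_pow, map_pow, ← pow_mul, mul_comm k i, h1]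
  have h3 := h2 1
  rw [pow_one, pow_one, one_mul] at h3
  rw [P_eq, h3, h2, h2, h2]

theorem lines {u v : X} (hv : v ^ 5 = 1) (h : u * v = v * u) :
    P ρ u + P ρ (u * v ^ 1) + P ρ (u * v ^ 2) + P ρ (u * v ^ 3) + P ρ (u * v ^ 4) + P ρ v = 5 + P ρ u * P ρ v := by
  rw [P_line hv h, P_line hv h, P_line hv h, P_line hv h, P_eq, P_eq]
  norm_num
  rw [show (5 : R) = 1 + 1 + 1 + 1 + 1 by norm_num]
  noncomm_ring

/-- **No module in characteristic three.** -/
theorem no_three (h10 : (1 : R) ≠ 0) (h3 : (3 : R) = 0) (h15 : ∀ x : X, orderOf x = 15 → ∑ i ∈ range 15, ρ x ^ i = 0)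
    (h11 : ∀ x : X, orderOf x = 11 → ∑ i ∈ range 11, ρ x ^ i = 0) {u v : X} (hu : u ^ 5 = 1) (hu1 : u ≠ 1) (hv : v ^ 5 = 1)
    (hv1 : v ≠ 1) (huv : u * v = v * u)
    {s₀ s₁ c₀ c₁ : X} (hs : u = s₀ * s₁) (a1 : s₀ ^ 2 = 1) (a2 : s₁ ^ 2 = 1) (a3 : c₀ ^ 3 = 1) (a4 : c₁ ^ 3 = 1)
    (a5 : (s₀ * c₀) ^ 3 = 1) (a6 : (s₁ * c₁) ^ 3 = 1) (b1 : v * s₀ = s₀ * v) (b2 : v * s₁ = s₁ * v)
    (b3 : v * c₀ = c₀ * v) (b4 : v * c₁ = c₁ * v)
    {s d₀ d₁ : X} (e1 : s ^ 2 = 1) (e2 : (s * v) ^ 2 = 1) (e3 : d₀ ^ 3 = 1) (e4 : d₁ ^ 3 = 1) (e5 : (s * d₀) ^ 3 = 1)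
    (e6 : (s * v * d₁) ^ 3 = 1) (f1 : u * s = s * u) (f3 : u * d₀ = d₀ * u) (f4 : u * d₁ = d₁ * u)
    {h₁ h₂ h₃ h₄ m : X} (g1 : u * v ^ 1 = h₁ * u * h₁⁻¹) (g2 : u * v ^ 2 = h₂ * v * h₂⁻¹) (g3 : u * v ^ 3 = h₃ * v * h₃⁻¹)
    (g4 : u * v ^ 4 = h₄ * u * h₄⁻¹)
    (hm : m = s₀ * (h₃ * s₀ * h₃⁻¹) * s₁ * (h₃ * (s₁ * s₀) * h₃⁻¹)) (hm11 : orderOf m = 11) : False := by
  have hs01 : s₀ ≠ 1 := by
    rintro rfl
    rw [one_mul] at hs
    rw [hs] at hu hu1
    have h1 : s₁ ^ 5 = s₁ := by rw [pow_succ, show s₁ ^ 4 = (s₁ ^ 2) ^ 2 by rw [← pow_mul], a2, one_pow, one_mul]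
    exact hu1 (h1.symm.trans hu)
  have hs11 : s₁ ≠ 1 := by
    rintro rfl
    rw [mul_one] at hs
    rw [hs] at hu hu1
    have h1 : s₀ ^ 5 = s₀ := by rw [pow_succ, show s₀ ^ 4 = (s₀ ^ 2) ^ 2 by rw [← pow_mul], a1, one_pow, one_mul]
    exact hu1 (h1.symm.trans hu)
  have hsv : s * v ≠ 1 := by
    intro h
    have h1 : v = s := by
      have h2 : s * (s * v) = s := by rw [h, mul_one]
      rw [← mul_assoc, ← pow_two, e1, one_mul] at h2
      exact h2
    rw [h1] at hv hv1
    have h1 : s ^ 5 = s := by rw [pow_succ, show s ^ 4 = (s ^ 2) ^ 2 by rw [← pow_mul], e1, one_pow, one_mul]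
    exact hv1 (h1.symm.trans hv)
  have hs1 : s ≠ 1 := by
    rintro rfl
    rw [one_mul] at e2
    have h1 : v ^ 5 = v := by rw [pow_succ, show v ^ 4 = (v ^ 2) ^ 2 by rw [← pow_mul], e2, one_pow, one_mul]
    exact hv1 (h1.symm.trans hv)
  have k0 : s₀ ∈ Fix ρ v := P_four h3 hv hv1 a1 hs01 a3 a5 b1 b3 h15
  have k1 : s₁ ∈ Fix ρ v := P_four h3 hv hv1 a2 hs11 a4 a6 b2 b4 h15
  have ku : u ∈ Fix ρ v := by rw [hs]; exact mul_mem k0 k1
  have kv' : v ∈ Fix ρ v := P_self hv
  have f2 : u * (s * v) = s * v * u := by rw [← mul_assoc, f1, mul_assoc, huv, ← mul_assoc]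
  have l0 : s ∈ Fix ρ u := P_four h3 hu hu1 e1 hs1 e3 e5 f1 f3 h15
  have l1 : s * v ∈ Fix ρ u := P_four h3 hu hu1 e2 hsv e4 e6 f2 f4 h15
  have kv : v ∈ Fix ρ u := by
    have h1 : v = s⁻¹ * (s * v) := by group
    rw [h1]
    exact mul_mem (inv_mem l0) l1
  have hPuv := P_eq_P h3 huv ku kv
  have g3' : h₃ * v * h₃⁻¹ ∈ Fix ρ v := by
    rw [← g3]
    exact mul_mem ku (Subgroup.pow_mem _ kv' 3)
  have hPv : P ρ v = 0 := by
    refine P_zero_of_eleven h3 h11 hm11 ?_
    rw [hm]
    exact mul_mem (mul_mem (mul_mem k0 (conj_mem h3 g3' k0)) k1) (conj_mem h3 g3' (mul_mem k1 k0))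
  have hPu : P ρ u = 0 := by rw [hPuv, hPv]
  have hl := lines (ρ := ρ) hv huv
  rw [g1, g2, g3, g4, P_conj, P_conj, P_conj, P_conj, hPv, hPu] at hl
  simp only [mul_zero, zero_mul, add_zero] at hl
  apply h10
  have h5 : (1 : R) = 3 + 3 - 5 := by norm_num
  rw [h5, h3, ← hl]
  simp

end Cfsg.Agent.H423.Sp.Three

private theorem dce_1c0949102818 : _root_.True := by
  try have : _root_.True := by simp only [_root_.Cfsg.Agent.H423.Sp.Three.P.eq_1]
  exact _root_.True.intro
end

-- part: H423/SpSuzThree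
section
set_option linter.all false
open scoped Cfsg.Agent.FastGrp

/-!
# The group of Suzuki in characteristic three (helper423)
-/

set_option autoImplicit false
set_option maxRecDepth 100000

namespace Cfsg.Agent.H423.Sp.SuzW

open Finset Cfsg.Agent.OddHalf.Table Cfsg.Agent.OddHalf.Table.SuzRep

private theorem eqf {u v : List ℕ} (h : Cfsg.Agent.Lib.PermNetFast.eqF 11 4 (u.map lnet) (v.map lnet) = true) :
    Cfsg.Agent.Lib.PermNet.checkEq 11 (u.map lnet) (v.map lnet) = true :=
  Cfsg.Agent.Lib.PermNetFast.checkEq_of 4 (Cfsg.Agent.Schreier.SuzT.rep_wok (forall₂_map u)) (Cfsg.Agent.Schreier.SuzT.rep_wok (forall₂_map v)) (by decide) h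

theorem ne_one {u : List ℕ} (p : ℕ) (h : Nat.beq (ev u p) (ev [] p) = false) : Wd u ≠ 1 := by
  rw [← Wd_nil]
  exact ne_of_ev h

/-- words -/
def wV : List ℕ := [5, 8, 13, 0]
def wA : List ℕ := [9, 5, 3, 7, 2, 5, 9]
def wB : List ℕ := [0, 13, 4, 7, 4, 13, 1]
def wJ : List ℕ := [1, 1, 12, 4, 7, 4, 12, 0, 0]
def wJ' : List ℕ := [0, 10, 3, 7, 9, 2, 10, 1]
def wD : List ℕ := [8, 12, 10, 5, 10, 11, 5, 10, 12, 8]
def wD0 : List ℕ := [5, 9, 4, 5, 10, 11, 5, 4, 9, 5]
def wD1 : List ℕ := [2, 13, 12, 2, 10, 11, 3, 12, 13, 3]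
def wH1 : List ℕ := [3, 0, 9, 3, 0, 0, 5, 12, 4, 9]
def wH2 : List ℕ := [3, 13, 5, 3, 12, 2, 5, 13, 2]
def wH3 : List ℕ := [2, 12, 8, 7, 4, 0, 8, 3, 3, 0]
def wK3 : List ℕ := [1, 2, 2, 8, 1, 4, 7, 8, 12, 3]
def wH4 : List ℕ := [1, 4, 7, 5, 0, 0, 4, 11, 5, 12]
def wU : List ℕ := wA ++ wB
def wM : List ℕ := wA ++ (wH3 ++ wA ++ wK3) ++ wB ++ (wH3 ++ (wB ++ wA) ++ wK3)

theorem pow_of {u : List ℕ} (n : ℕ) (h : Cfsg.Agent.Lib.PermNet.checkEq 11 ((rep n u).map lnet) ([].map lnet) = true) :
    Wd u ^ n = 1 := by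
  rw [← Wd_rep, ← Wd_nil]
  exact eqw h

theorem comm_of {u v : List ℕ} (h : Cfsg.Agent.Lib.PermNet.checkEq 11 ((u ++ v).map lnet) ((v ++ u).map lnet) = true) :
    Wd u * Wd v = Wd v * Wd u := by
  rw [← Wd_append, ← Wd_append]
  exact eqw h

theorem uU : Wd wU = Wd wA * Wd wB := Wd_append _ _

theorem V5 : Wd wV ^ 5 = 1 := pow_of 5 (eqf (by decide +kernel))
theorem U5 : Wd wU ^ 5 = 1 := pow_of 5 (eqf (by decide +kernel))
theorem V1 : Wd wV ≠ 1 := ne_one 0 (by decide +kernel)
theorem U1 : Wd wU ≠ 1 := ne_one 0 (by decide +kernel)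
theorem UV : Wd wU * Wd wV = Wd wV * Wd wU := comm_of (eqf (by decide +kernel))
theorem A2 : Wd wA ^ 2 = 1 := pow_of 2 (eqf (by decide +kernel))
theorem B2 : Wd wB ^ 2 = 1 := pow_of 2 (eqf (by decide +kernel))
theorem C03 : (Wd wB * Wd wJ) ^ 3 = 1 := by
  rw [← Wd_append]; exact pow_of 3 (eqf (by decide +kernel))
theorem C13 : (Wd wA * Wd wJ') ^ 3 = 1 := by
  rw [← Wd_append]; exact pow_of 3 (eqf (by decide +kernel))
theorem AC : (Wd wA * (Wd wB * Wd wJ)) ^ 3 = 1 := by
  rw [← Wd_append, ← Wd_append]; exact pow_of 3 (eqf (by decide +kernel))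
theorem BC : (Wd wB * (Wd wA * Wd wJ')) ^ 3 = 1 := by
  rw [← Wd_append, ← Wd_append]; exact pow_of 3 (eqf (by decide +kernel))
theorem VA : Wd wV * Wd wA = Wd wA * Wd wV := comm_of (eqf (by decide +kernel))
theorem VB : Wd wV * Wd wB = Wd wB * Wd wV := comm_of (eqf (by decide +kernel))
theorem VJ : Wd wV * Wd wJ = Wd wJ * Wd wV := comm_of (eqf (by decide +kernel))
theorem VJ' : Wd wV * Wd wJ' = Wd wJ' * Wd wV := comm_of (eqf (by decide +kernel))
theorem S2 : (Wd wD * Wd wD0) ^ 2 = 1 := by
  rw [← Wd_append]; exact pow_of 2 (eqf (by decide +kernel))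
theorem SV2 : (Wd wD * Wd wD0 * Wd wV) ^ 2 = 1 := by
  rw [← Wd_append, ← Wd_append]; exact pow_of 2 (eqf (by decide +kernel))
theorem D03 : Wd wD0 ^ 3 = 1 := pow_of 3 (eqf (by decide +kernel))
theorem D13 : Wd wD1 ^ 3 = 1 := pow_of 3 (eqf (by decide +kernel))
theorem SD0 : (Wd wD * Wd wD0 * Wd wD0) ^ 3 = 1 := by
  rw [← Wd_append, ← Wd_append]; exact pow_of 3 (eqf (by decide +kernel))
theorem SVD1 : (Wd wD * Wd wD0 * Wd wV * Wd wD1) ^ 3 = 1 := by
  rw [← Wd_append, ← Wd_append, ← Wd_append]; exact pow_of 3 (eqf (by decide +kernel))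
theorem UD : Wd wU * Wd wD = Wd wD * Wd wU := comm_of (eqf (by decide +kernel))
theorem UD0 : Wd wU * Wd wD0 = Wd wD0 * Wd wU := comm_of (eqf (by decide +kernel))
theorem UD1 : Wd wU * Wd wD1 = Wd wD1 * Wd wU := comm_of (eqf (by decide +kernel))
theorem H1 : Wd wU * Wd wV ^ 1 = Wd wH1 * Wd wU * (Wd wH1)⁻¹ := by
  rw [eq_mul_inv_iff_mul_eq, ← Wd_rep, ← Wd_append, ← Wd_append, ← Wd_append]
  exact eqw (eqf (by decide +kernel))
theorem H2 : Wd wU * Wd wV ^ 2 = Wd wH2 * Wd wV * (Wd wH2)⁻¹ := by
  rw [eq_mul_inv_iff_mul_eq, ← Wd_rep, ← Wd_append, ← Wd_append, ← Wd_append]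
  exact eqw (eqf (by decide +kernel))
theorem H3 : Wd wU * Wd wV ^ 3 = Wd wH3 * Wd wV * (Wd wH3)⁻¹ := by
  rw [eq_mul_inv_iff_mul_eq, ← Wd_rep, ← Wd_append, ← Wd_append, ← Wd_append]
  exact eqw (eqf (by decide +kernel))
theorem H4 : Wd wU * Wd wV ^ 4 = Wd wH4 * Wd wU * (Wd wH4)⁻¹ := by
  rw [eq_mul_inv_iff_mul_eq, ← Wd_rep, ← Wd_append, ← Wd_append, ← Wd_append]
  exact eqw (eqf (by decide +kernel))
theorem K3 : Wd wK3 = (Wd wH3)⁻¹ := by
  rw [eq_inv_iff_mul_eq_one, ← Wd_append, ← Wd_nil]
  exact eqw (eqf (by decide +kernel))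
theorem M11 : orderOf (Wd wM) = 11 := by
  have : Fact (Nat.Prime 11) := ⟨by norm_num⟩
  exact orderOf_eq_prime (pow_of 11 (eqf (by decide +kernel))) (ne_one 0 (by decide +kernel))
theorem M_eq : Wd wM = Wd wA * (Wd wH3 * Wd wA * (Wd wH3)⁻¹) * Wd wB * (Wd wH3 * (Wd wB * Wd wA) * (Wd wH3)⁻¹) := by
  rw [← K3]
  simp only [wM, Wd_append]

theorem comm_mul {G : Type*} [Group G] {a b c : G} (h1 : a * b = b * a) (h2 : a * c = c * a) : a * (b * c) = b * c * a := by
  rw [← mul_assoc, h1, mul_assoc, h2, ← mul_assoc]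

/-- **`Suz` in characteristic three** -/
theorem suz_no_three {R : Type*} [Ring R] (ρ : Cfsg.Spor.Suz →* R) (h10 : (1 : R) ≠ 0) (h3 : (3 : R) = 0)
    (h15 : ∀ x : Cfsg.Spor.Suz, orderOf x = 15 → ∑ i ∈ range 15, ρ x ^ i = 0)
    (h11 : ∀ x : Cfsg.Spor.Suz, orderOf x = 11 → ∑ i ∈ range 11, ρ x ^ i = 0) : False :=
  Three.no_three (ρ := ρ) h10 h3 h15 h11 U5 U1 V5 V1 UV (s₀ := Wd wA) (s₁ := Wd wB) (c₀ := Wd wB * Wd wJ)
    (c₁ := Wd wA * Wd wJ') uU A2 B2 C03 C13 AC BC VA VB (comm_mul VB VJ) (comm_mul VA VJ')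
    (s := Wd wD * Wd wD0) (d₀ := Wd wD0) (d₁ := Wd wD1) S2 SV2 D03 D13 SD0 SVD1 (comm_mul UD UD0) UD0 UD1
    H1 H2 H3 H4 M_eq M11

end Cfsg.Agent.H423.Sp.SuzW

private theorem dce_42839c40dcf0 : _root_.True := by
  try have : _root_.True := by simp only [_root_.Cfsg.Agent.H423.Sp.SuzW.wM.eq_1]
  exact _root_.True.intro
end

-- part: H385/SuzOut
section
prune_inst 0x1000100022000000000004800020200800000000200001c14002000300890040008900002033021022a200000c00081110005002480000240000000004012010280202a0480100000010009005180c00000000000000000000000000000000000000000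
set_option linter.all false
open scoped Cfsg.Agent.FastGrp

-- part: H385/FiOut
section
/-!
# A group with a normal subgroup `Fi22` of index 2 has an element of order 42 (helper385)

`S ≅ Fi22` normal of index 2 in `X`, `y ∈ S` of order 7. `|C_S(y)| = 42`, so `|C_X(y)| ∈ {42, 84}`; it is `84` by the
Sylow congruence for the prime 7 in `X`. The Sylow 3-subgroup of `C_S(y)` is normal in `C_S(y)`, the number of Sylow
3-subgroups of `C_X(y)` is at most 2, hence it is one, and an involution of `C_X(y)` centralizes it.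
-/

set_option autoImplicit false

namespace Cfsg.Agent.H385.FiOut

open Subgroup Cfsg Cfsg.Agent.H836
open Cfsg.Agent.H58.Rec
open Cfsg.Agent.KFacts.FiTT (TK)

universe u

/-- the inclusion of `C_S(y)` into `C_X(y)` -/
def inc {X : Type u} [Group X] (S : Subgroup X) (y : ↥S) :
    ↥(centralizer ({y} : Set ↥S)) →* ↥(centralizer ({(y : X)} : Set X)) where
  toFun a := ⟨((a : ↥S) : X), mem_centralizer_singleton_iff.2
    (congrArg Subtype.val (mem_centralizer_singleton_iff.1 a.2))⟩
  map_one' := rfl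
  map_mul' _ _ := rfl

theorem inc_injective {X : Type u} [Group X] (S : Subgroup X) (y : ↥S) : Function.Injective (inc S y) := by
  intro a b h
  apply Subtype.ext
  apply Subtype.ext
  exact congrArg (fun z : ↥(centralizer ({(y : X)} : Set X)) => (z : X)) h

theorem inc_range {X : Type u} [Group X] (S : Subgroup X) (y : ↥S) :
    (inc S y).range = S.subgroupOf (centralizer ({(y : X)} : Set X)) := by
  ext a
  rw [mem_subgroupOf, MonoidHom.mem_range]
  constructor
  · rintro ⟨b, rfl⟩
    exact (b : ↥S).2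
  · intro ha
    refine ⟨⟨⟨(a : X), ha⟩, ?_⟩, rfl⟩
    rw [mem_centralizer_singleton_iff]
    exact Subtype.ext (mem_centralizer_singleton_iff.1 a.2)

theorem card_range {A B : Type*} [Group A] [Group B] (f : A →* B) (hf : Function.Injective f) :
    Nat.card ↥f.range = Nat.card A :=
  Nat.card_congr (MonoidHom.ofInjective hf).symm.toEquiv

variable {X : Type u} [Group X] [Finite X]

theorem card_centralizer (S : Subgroup X) [S.Normal] (hidx : S.index = 2) (e : ↥S ≃* Spor.Fi22)
    (y : ↥S) (hy : orderOf y = 7) :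
    Nat.card ↥(centralizer ({y} : Set ↥S)) = 42 ∧ Nat.card ↥(centralizer ({(y : X)} : Set X)) = 84 := by
  have I := inv_of_iso e
  have hy7 : y ^ 7 = 1 := by rw [← hy]; exact pow_orderOf_eq_one y
  have hy1 : y ≠ 1 := by
    rintro rfl
    rw [orderOf_one] at hy
    norm_num at hy
  have h42 := I.card_seven hy7 hy1
  refine ⟨h42, ?_⟩
  have hS : Nat.card ↥S = 64561751654400 := I.ctx.card
  have hX : Nat.card X = 129123503308800 := by
    rw [← S.card_mul_index, hS, hidx]
  -- the index of `C_S(y)` in `C_X(y)` divides 2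
  have h1 : Nat.card ↥(centralizer ({(y : X)} : Set X)) = 42 * S.relIndex (centralizer ({(y : X)} : Set X)) := by
    rw [relIndex, ← (S.subgroupOf (centralizer ({(y : X)} : Set X))).card_mul_index, ← inc_range,
      card_range _ (inc_injective S y), h42]
  have h2 : S.relIndex (centralizer ({(y : X)} : Set X)) ∣ 2 := by
    rw [← hidx]
    exact relIndex_dvd_index_of_normal S _
  have hyX : orderOf (y : X) = 7 := by rw [Subgroup.orderOf_coe]; exact hy
  have hZ : Nat.card ↥(zpowers (y : X)) = 7 := by rw [Nat.card_zpowers, hyX]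
  have hnsq : ¬ 7 ^ 2 ∣ Nat.card X := by rw [hX]; norm_num
  obtain ⟨n, k, hn, hk, h3, -⟩ := Sylow.card_normalizer (by norm_num) hnsq hZ
  rw [Main.centralizer_zpowers, h1, hX] at h3
  rcases (Nat.dvd_prime Nat.prime_two).1 h2 with h4 | h4
  · exfalso
    rw [h4] at h3
    have h5 : k * n = 3074369126400 := by
      have : 42 * (k * n) = 42 * 3074369126400 := by
        calc 42 * (k * n) = 42 * 1 * k * n := by ring
          _ = _ := h3.symm
      exact mul_left_cancel₀ (by norm_num) this
    have h6 : k % 7 = 5 := by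
      have h := Nat.mul_mod k n 7
      rw [h5, hn, mul_one, Nat.mod_mod] at h
      omega
    have h7 : k ≤ 6 := Nat.le_of_dvd (by norm_num) hk
    have h8 : k = 5 := by omega
    rw [h8] at hk
    revert hk
    norm_num
  · rw [h1, h4]

/-- **a group with a normal subgroup `Fi22` of index 2 has an element of order 42** -/
theorem fi_out (S : Subgroup X) [S.Normal] (hidx : S.index = 2) (he : Nonempty (↥S ≃* Spor.Fi22)) :
    HasOrd X 42 := by
  obtain ⟨e⟩ := he
  have I := inv_of_iso e
  have hS : Nat.card ↥S = 64561751654400 := I.ctx.card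
  have hp7 : Fact (Nat.Prime 7) := ⟨by norm_num⟩
  have hp3 : Fact (Nat.Prime 3) := ⟨by norm_num⟩
  have hp2 : Fact (Nat.Prime 2) := ⟨Nat.prime_two⟩
  obtain ⟨y, hy⟩ := exists_prime_orderOf_dvd_card' (G := ↥S) 7 (by rw [hS]; norm_num)
  obtain ⟨h42, h84⟩ := card_centralizer S hidx e y hy
  -- the element of order 3
  obtain ⟨t, ht⟩ := exists_prime_orderOf_dvd_card' (G := ↥(centralizer ({y} : Set ↥S))) 3
    (by rw [h42]; norm_num)
  have hT1 : Nat.card ↥(zpowers t) = 3 := by rw [Nat.card_zpowers, ht]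
  let y1 : ↥(centralizer ({y} : Set ↥S)) := ⟨y, mem_centralizer_singleton_iff.2 rfl⟩
  have hy1o : orderOf y1 = 7 := by rw [← Subgroup.orderOf_coe]; exact hy
  obtain ⟨n, k, hn, hk, h3, h4⟩ := Sylow.card_normalizer (by norm_num)
    (show ¬ 3 ^ 2 ∣ Nat.card ↥(centralizer ({y} : Set ↥S)) by rw [h42]; norm_num) hT1
  have hN1 : normalizer ((zpowers t : Subgroup _) : Set ↥(centralizer ({y} : Set ↥S))) = ⊤ := by
    have hc : ∀ z : ↥(centralizer ({y} : Set ↥S)), y1 * z = z * y1 := fun z =>
      Subtype.ext (mem_centralizer_singleton_iff.1 z.2).symm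
    have d7 : 7 ∣ Nat.card ↥(centralizer ((zpowers t : Subgroup _) : Set ↥(centralizer ({y} : Set ↥S)))) := by
      have hm : y1 ∈ centralizer ((zpowers t : Subgroup _) : Set ↥(centralizer ({y} : Set ↥S))) := by
        rw [mem_centralizer_iff]
        intro z _
        exact (hc z).symm
      rw [← hy1o, ← Subgroup.orderOf_mk _ hm]
      exact orderOf_dvd_natCard _
    have d3 : 3 ∣ Nat.card ↥(centralizer ((zpowers t : Subgroup _) : Set ↥(centralizer ({y} : Set ↥S)))) := by
      have hm : t ∈ centralizer ((zpowers t : Subgroup _) : Set ↥(centralizer ({y} : Set ↥S))) := by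
        rw [Main.centralizer_zpowers]
        exact mem_centralizer_singleton_iff.2 rfl
      rw [← ht, ← Subgroup.orderOf_mk _ hm]
      exact orderOf_dvd_natCard _
    have d21 : 21 ∣ Nat.card ↥(centralizer ((zpowers t : Subgroup _) : Set ↥(centralizer ({y} : Set ↥S)))) :=
      Nat.Coprime.mul_dvd_of_dvd_of_dvd (by norm_num) d7 d3
    obtain ⟨m, hm⟩ := d21
    rw [h42, hm] at h3
    have h5 : m * k * n = 2 := by
      have : 21 * (m * k * n) = 21 * 2 := by
        calc 21 * (m * k * n) = 21 * m * k * n := by ring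
          _ = 42 := h3.symm
      omega
    have h6 : n ∣ 2 := ⟨m * k, by rw [← h5]; ring⟩
    have h7 : n = 1 := by
      rcases (Nat.dvd_prime Nat.prime_two).1 h6 with h | h
      · exact h
      · rw [h] at hn; norm_num at hn
    rw [h7, mul_one] at h5
    apply eq_top_of_card_eq
    rw [h4, hm, h42]
    calc 21 * m * k = 21 * (m * k) := by ring
      _ = 42 := by rw [h5]
  -- the image in `C_X(y)`
  set f := inc S y with hf
  have hfi : Function.Injective f := inc_injective S y
  have hft : orderOf (f t) = 3 := by rw [orderOf_injective f hfi]; exact ht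
  have hT : Nat.card ↥(zpowers (f t)) = 3 := by rw [Nat.card_zpowers, hft]
  obtain ⟨n', k', hn', hk', h3', h4'⟩ := Sylow.card_normalizer (by norm_num)
    (show ¬ 3 ^ 2 ∣ Nat.card ↥(centralizer ({(y : X)} : Set X)) by rw [h84]; norm_num) hT
  have hle : f.range ≤ normalizer ((zpowers (f t) : Subgroup _) : Set ↥(centralizer ({(y : X)} : Set X))) := by
    have h5 : zpowers (f t) = (zpowers t).map f := (MonoidHom.map_zpowers f t).symm
    rw [h5, MonoidHom.range_eq_map, ← hN1]
    exact le_normalizer_map f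
  have h42' : 42 ≤ Nat.card ↥(normalizer ((zpowers (f t) : Subgroup _) : Set ↥(centralizer ({(y : X)} : Set X)))) := by
    rw [← h42, ← card_range f hfi]
    exact Nat.le_of_dvd Nat.card_pos (card_dvd_of_le hle)
  rw [← h4', h84] at h3'
  have hn1 : n' = 1 := by
    have h5 : n' ≤ 2 := by
      by_contra h6
      have h7 : 42 * 3 ≤ Nat.card ↥(normalizer ((zpowers (f t) : Subgroup _) : Set ↥(centralizer ({(y : X)} : Set X)))) * n' :=
        Nat.mul_le_mul h42' (by omega)
      omega
    omega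
  rw [hn1, mul_one, h4'] at h3'
  have heven : 2 ∣ Nat.card ↥(centralizer ((zpowers (f t) : Subgroup _) : Set ↥(centralizer ({(y : X)} : Set X)))) := by
    rcases (Nat.dvd_prime Nat.prime_two).1 (show k' ∣ 2 from hk') with h | h
    · rw [h] at h3'; omega
    · rw [h] at h3'; omega
  obtain ⟨i, hi⟩ := exists_prime_orderOf_dvd_card'
    (G := ↥(centralizer ((zpowers (f t) : Subgroup _) : Set ↥(centralizer ({(y : X)} : Set X))))) 2 heven
  have hi2 : orderOf (i : ↥(centralizer ({(y : X)} : Set X))) = 2 := by rw [Subgroup.orderOf_coe]; exact hi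
  have hci : Commute (i : ↥(centralizer ({(y : X)} : Set X))) (f t) := by
    exact mem_centralizer_singleton_iff.1 ((Main.centralizer_zpowers (f t)).le i.2)
  have h6 : orderOf ((i : ↥(centralizer ({(y : X)} : Set X))) * f t) = 6 := by
    rw [hci.orderOf_mul_eq_mul_orderOf_of_coprime (by rw [hi2, hft]; norm_num), hi2, hft]
  have hyX : orderOf (y : X) = 7 := by rw [Subgroup.orderOf_coe]; exact hy
  set w := (i : ↥(centralizer ({(y : X)} : Set X))) * f t with hw
  have hwX : orderOf (w : X) = 6 := by rw [Subgroup.orderOf_coe]; exact h6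
  have hcw : Commute (w : X) (y : X) := mem_centralizer_singleton_iff.1 w.2
  refine ⟨(w : X) * y, ?_⟩
  rw [hcw.orderOf_mul_eq_mul_orderOf_of_coprime (by rw [hwX, hyX]; norm_num), hwX, hyX]

end Cfsg.Agent.H385.FiOut
end

-- part: H385/SuzOut
section
/-!
# A group with a normal subgroup `Suz` of index 2 has an element of order 28 or 42 (helper385)

`S ≅ Suz` normal of index 2 in `X`, `y ∈ S` of order 7. `C_S(y) ≅ 7 × A₄`, and `|C_X(y)| = 168` by the Sylow congruence
for the prime 7 in `X`. If `C = C_X(y)` has no element of order 4, there is an involution `x ∈ C ∖ S`; it centralizes the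
four-group `V` of `C_S(y)`, so it maps the element `t` of order 3 to a `V`-conjugate `w t w⁻¹`, and `w⁻¹ x` is an
involution centralizing `t`.
-/

set_option autoImplicit false

namespace Cfsg.Agent.H385.SuzOut

open Subgroup Cfsg Cfsg.Agent.H836
open Cfsg.Agent.H58.Rec
open Cfsg.Agent.H385.FiOut (inc inc_injective inc_range card_range)

universe u

theorem a4_mul : ∀ a b : alternatingGroup (Fin 4), a ^ 2 = 1 → b ^ 2 = 1 → (a * b) ^ 2 = 1 := by (set_option synthInstance.maxSize 9000 in open scoped Cfsg.Agent.Lib.FastPerm in decide +kernel)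

theorem a4_key : ∀ s t : alternatingGroup (Fin 4), s ^ 3 = 1 → t ^ 3 = 1 →
    (∀ v : alternatingGroup (Fin 4), v ^ 2 = 1 → s * v * s⁻¹ = t * v * t⁻¹) →
    ∃ w : alternatingGroup (Fin 4), w ^ 2 = 1 ∧ w * t * w⁻¹ = s := by (set_option synthInstance.maxSize 9000 in open scoped Cfsg.Agent.Lib.FastPerm in decide +kernel)

section

variable {A : Type*} [Group A] (φ : A ≃* Multiplicative (ZMod 7) × alternatingGroup (Fin 4))
include φ

theorem fst_one {a : A} {n : ℕ} (hn : Nat.Coprime 7 n) (h : a ^ n = 1) : (φ a).1 = 1 := by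
  have h1 : (φ a).1 ^ n = 1 := by
    have h2 : (φ a) ^ n = 1 := by rw [← map_pow, h, map_one]
    exact congrArg Prod.fst h2
  have h2 : (φ a).1 ^ 7 = 1 := by
    have h3 : Nat.card (Multiplicative (ZMod 7)) = 7 := by simp
    have h4 := pow_card_eq_one' (x := (φ a).1)
    rwa [h3] at h4
  have h3 : orderOf (φ a).1 ∣ 1 := by
    have := Nat.dvd_gcd (orderOf_dvd_of_pow_eq_one h2) (orderOf_dvd_of_pow_eq_one h1)
    rwa [hn] at this
  exact orderOf_eq_one_iff.1 (Nat.dvd_one.1 h3)

theorem sq_mul (a b : A) (ha : a ^ 2 = 1) (hb : b ^ 2 = 1) : (a * b) ^ 2 = 1 := by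
  have ha1 := fst_one φ (n := 2) (by norm_num) ha
  have hb1 := fst_one φ (n := 2) (by norm_num) hb
  have ha2 : (φ a).2 ^ 2 = 1 := by
    have h2 : (φ a) ^ 2 = 1 := by rw [← map_pow, ha, map_one]
    exact congrArg Prod.snd h2
  have hb2 : (φ b).2 ^ 2 = 1 := by
    have h2 : (φ b) ^ 2 = 1 := by rw [← map_pow, hb, map_one]
    exact congrArg Prod.snd h2
  apply φ.injective
  rw [map_pow, map_mul, map_one]
  apply Prod.ext
  · rw [Prod.pow_fst, Prod.fst_mul, ha1, hb1]
    simp
  · exact a4_mul _ _ ha2 hb2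

theorem key (s t : A) (hs : s ^ 3 = 1) (ht : t ^ 3 = 1) (h : ∀ v : A, v ^ 2 = 1 → s * v * s⁻¹ = t * v * t⁻¹) :
    ∃ w : A, w ^ 2 = 1 ∧ w * t * w⁻¹ = s := by
  have hs1 := fst_one φ (n := 3) (by norm_num) hs
  have ht1 := fst_one φ (n := 3) (by norm_num) ht
  have hs2 : (φ s).2 ^ 3 = 1 := by
    have h2 : (φ s) ^ 3 = 1 := by rw [← map_pow, hs, map_one]
    exact congrArg Prod.snd h2
  have ht2 : (φ t).2 ^ 3 = 1 := by
    have h2 : (φ t) ^ 3 = 1 := by rw [← map_pow, ht, map_one]
    exact congrArg Prod.snd h2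
  obtain ⟨w, hw, hw2⟩ := a4_key (φ s).2 (φ t).2 hs2 ht2 (by
    intro v hv
    have h1 := h (φ.symm (1, v)) (by
      apply φ.injective
      rw [map_pow, φ.apply_symm_apply, map_one]
      exact Prod.ext (one_pow _) hv)
    have h2 := congrArg φ h1
    rw [map_mul, map_mul, map_inv, map_mul, map_mul, map_inv, φ.apply_symm_apply] at h2
    exact congrArg Prod.snd h2)
  refine ⟨φ.symm (1, w), ?_, ?_⟩
  · apply φ.injective
    rw [map_pow, φ.apply_symm_apply, map_one]
    exact Prod.ext (one_pow _) hw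
  · apply φ.injective
    rw [map_mul, map_mul, map_inv, φ.apply_symm_apply]
    apply Prod.ext
    · show 1 * (φ t).1 * 1⁻¹ = (φ s).1
      rw [hs1, ht1]; simp
    · exact hw2

end

variable {X : Type u} [Group X] [Finite X]

theorem card_centralizer (S : Subgroup X) [S.Normal] (hidx : S.index = 2) (e : ↥S ≃* Spor.Suz) :
    ∃ y : ↥S, orderOf y = 7 ∧
      Nonempty (↥(centralizer ({y} : Set ↥S)) ≃* Multiplicative (ZMod 7) × alternatingGroup (Fin 4)) ∧
      Nat.card ↥(centralizer ({y} : Set ↥S)) = 84 ∧ Nat.card ↥(centralizer ({(y : X)} : Set X)) = 168 := by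
  have hp7 : Fact (Nat.Prime 7) := ⟨by norm_num⟩
  have hS : Nat.card ↥S = 448345497600 := by rw [Nat.card_congr e.toEquiv, H812.SuzSeven.card_Suz]
  have hX : Nat.card X = 896690995200 := by
    rw [← S.card_mul_index, hS, hidx]
  obtain ⟨B⟩ : Nonempty (Sylow 7 ↥S) := inferInstance
  have hB : Nat.card (B : Subgroup ↥S) = 7 := by
    have := J2Type.SylowSeven.card_sylow B 1 64049356800 (by rw [hS]; norm_num) (by norm_num)
    rw [this]; norm_num
  obtain ⟨⟨φ⟩, hN⟩ := H812.SuzSeven.main (G := ↥S) ⟨e⟩ B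
  obtain ⟨y, -, -, hy, hBy⟩ := Main.exists_gen (by norm_num) hB
  rw [hBy, Main.centralizer_zpowers] at φ
  have h84 : Nat.card ↥(centralizer ({y} : Set ↥S)) = 84 := by
    rw [Nat.card_congr φ.toEquiv, Nat.card_prod, Lib.VonDyck.card_alternating4]
    simp
  refine ⟨y, hy, ⟨φ⟩, h84, ?_⟩
  have h1 : Nat.card ↥(centralizer ({(y : X)} : Set X)) = 84 * S.relIndex (centralizer ({(y : X)} : Set X)) := by
    rw [relIndex, ← (S.subgroupOf (centralizer ({(y : X)} : Set X))).card_mul_index, ← inc_range,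
      card_range _ (inc_injective S y), h84]
  have h2 : S.relIndex (centralizer ({(y : X)} : Set X)) ∣ 2 := by
    rw [← hidx]
    exact relIndex_dvd_index_of_normal S _
  have hyX : orderOf (y : X) = 7 := by rw [Subgroup.orderOf_coe]; exact hy
  have hZ : Nat.card ↥(zpowers (y : X)) = 7 := by rw [Nat.card_zpowers, hyX]
  have hnsq : ¬ 7 ^ 2 ∣ Nat.card X := by rw [hX]; norm_num
  obtain ⟨n, k, hn, hk, h3, -⟩ := Sylow.card_normalizer (by norm_num) hnsq hZ
  rw [Main.centralizer_zpowers, h1, hX] at h3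
  rcases (Nat.dvd_prime Nat.prime_two).1 h2 with h4 | h4
  · exfalso
    rw [h4] at h3
    have h5 : k * n = 10674892800 := by
      have : 84 * (k * n) = 84 * 10674892800 := by
        calc 84 * (k * n) = 84 * 1 * k * n := by ring
          _ = _ := h3.symm
      exact mul_left_cancel₀ (by norm_num) this
    have h6 : k % 7 = 5 := by
      have h := Nat.mul_mod k n 7
      rw [h5, hn, mul_one, Nat.mod_mod] at h
      omega
    have h7 : k ≤ 6 := Nat.le_of_dvd (by norm_num) hk
    have h8 : k = 5 := by omega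
    rw [h8] at hk
    revert hk
    norm_num
  · rw [h1, h4]

/-- **a group with a normal subgroup `Suz` of index 2 has an element of order 28 or 42** -/
theorem suz_out (S : Subgroup X) [S.Normal] (hidx : S.index = 2) (he : Nonempty (↥S ≃* Spor.Suz)) :
    HasOrd X 28 ∨ HasOrd X 42 := by
  obtain ⟨e⟩ := he
  have hp3 : Fact (Nat.Prime 3) := ⟨by norm_num⟩
  have hp2 : Fact (Nat.Prime 2) := ⟨Nat.prime_two⟩
  obtain ⟨y, hy, ⟨φ⟩, h84, h168⟩ := card_centralizer S hidx e
  have hyX : orderOf (y : X) = 7 := by rw [Subgroup.orderOf_coe]; exact hy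
  by_cases h4 : ∃ c : ↥(centralizer ({(y : X)} : Set X)), orderOf c = 4
  · obtain ⟨c, hc⟩ := h4
    left
    have hcX : orderOf (c : X) = 4 := by rw [Subgroup.orderOf_coe]; exact hc
    have hcw : Commute (c : X) (y : X) := mem_centralizer_singleton_iff.1 c.2
    refine ⟨(c : X) * y, ?_⟩
    rw [hcw.orderOf_mul_eq_mul_orderOf_of_coprime (by rw [hcX, hyX]; norm_num), hcX, hyX]
  right
  push Not at h4
  -- elements of 2-power order are involutions
  have hpow : ∀ c : ↥(centralizer ({(y : X)} : Set X)), ∀ n : ℕ, c ^ 2 ^ n = 1 → c ^ 2 = 1 := by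
    intro c n hc
    obtain ⟨m, -, hm⟩ := (Nat.dvd_prime_pow Nat.prime_two).1 (orderOf_dvd_of_pow_eq_one hc)
    by_cases hm1 : m ≤ 1
    · apply orderOf_dvd_iff_pow_eq_one.1
      rw [hm]
      calc 2 ^ m ∣ 2 ^ 1 := pow_dvd_pow 2 hm1
        _ = 2 := by norm_num
    · exfalso
      have h5 : 4 ∣ orderOf c := by
        rw [hm]
        calc 4 = 2 ^ 2 := by norm_num
          _ ∣ 2 ^ m := pow_dvd_pow 2 (by omega)
      obtain ⟨r, hr⟩ := h5
      apply h4 (c ^ r)
      have hr0 : r ≠ 0 := by
        rintro rfl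
        exact (orderOf_pos c).ne' (by rw [hr, mul_zero])
      rw [orderOf_pow_of_dvd hr0 (by rw [hr]; exact Dvd.intro_left 4 rfl), hr]
      exact Nat.mul_div_cancel _ (Nat.pos_of_ne_zero hr0)
  -- an involution outside `S`
  have hx : ∃ x : ↥(centralizer ({(y : X)} : Set X)), (x : X) ∉ S ∧ x ^ 2 = 1 := by
    obtain ⟨P⟩ : Nonempty (Sylow 2 ↥(centralizer ({(y : X)} : Set X))) := inferInstance
    have hP : Nat.card (P : Subgroup ↥(centralizer ({(y : X)} : Set X))) = 2 ^ 3 :=
      J2Type.SylowSeven.card_sylow P 3 21 (by rw [h168]; norm_num) (by norm_num)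
    have hnle : ¬ (P : Subgroup ↥(centralizer ({(y : X)} : Set X))) ≤
        S.subgroupOf (centralizer ({(y : X)} : Set X)) := by
      intro hle
      have h5 := card_dvd_of_le hle
      rw [← inc_range, card_range _ (inc_injective S y), hP, h84] at h5
      revert h5
      norm_num
    obtain ⟨x, hxP, hxS⟩ := SetLike.not_le_iff_exists.1 hnle
    refine ⟨x, fun h => hxS (mem_subgroupOf.2 h), hpow x 3 ?_⟩
    have h5 := pow_card_eq_one' (x := (⟨x, hxP⟩ : ↥(P : Subgroup ↥(centralizer ({(y : X)} : Set X)))))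
    rw [hP] at h5
    exact congrArg Subtype.val h5
  obtain ⟨x, hxS, hx2⟩ := hx
  set f := inc S y with hf
  have hfi : Function.Injective f := inc_injective S y
  -- conjugation by `x` on `C_S(y)`
  have hconj : ∀ a : ↥(centralizer ({y} : Set ↥S)), ∃ b : ↥(centralizer ({y} : Set ↥S)), f b = x * f a * x⁻¹ := by
    intro a
    have h5 : x * f a * x⁻¹ ∈ f.range := by
      rw [hf, inc_range, mem_subgroupOf]
      have h6 : ((f a : ↥(centralizer ({(y : X)} : Set X))) : X) ∈ S := (a : ↥S).2
      exact Normal.conj_mem inferInstance _ h6 _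
    exact h5
  -- `x` centralizes the four-group
  have hV : ∀ v : ↥(centralizer ({y} : Set ↥S)), v ^ 2 = 1 → x * f v * x⁻¹ = f v := by
    intro v hv
    obtain ⟨b, hb⟩ := hconj v
    have hb2 : b ^ 2 = 1 := by
      apply hfi
      rw [map_pow, hb, conj_pow, ← map_pow, hv, map_one, mul_one, mul_inv_cancel]
    have hxx : x * x = 1 := by rw [← pow_two]; exact hx2
    have hxi : x⁻¹ = x := inv_eq_of_mul_eq_one_left hxx
    have h5 : (x * f v) ^ 2 = f (b * v) := by
      rw [map_mul, hb, hxi, pow_two]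
      group
    have h6 : (x * f v) ^ 2 = 1 := by
      apply hpow _ 2
      calc (x * f v) ^ 2 ^ 2 = ((x * f v) ^ 2) ^ 2 := by rw [← pow_mul]; norm_num
        _ = 1 := by rw [h5, ← map_pow, sq_mul φ b v hb2 hv, map_one]
    rw [h5] at h6
    have h7 : b * v = 1 := hfi (by rw [h6, map_one])
    have h8 : b = v := by
      have hvi : v⁻¹ = v := inv_eq_of_mul_eq_one_left (by rw [← pow_two]; exact hv)
      rw [eq_inv_of_mul_eq_one_left h7, hvi]
    rw [← hb, h8]
  -- the element of order 3
  obtain ⟨t, ht⟩ := exists_prime_orderOf_dvd_card' (G := ↥(centralizer ({y} : Set ↥S))) 3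
    (by rw [h84]; norm_num)
  have ht3 : t ^ 3 = 1 := by rw [← ht]; exact pow_orderOf_eq_one t
  obtain ⟨s, hs⟩ := hconj t
  have hs3 : s ^ 3 = 1 := by
    apply hfi
    rw [map_pow, hs, conj_pow, ← map_pow, ht3, map_one, mul_one, mul_inv_cancel]
  obtain ⟨w, hw, hw2⟩ := key φ s t hs3 ht3 (by
    intro v hv
    apply hfi
    have hv' : x⁻¹ * f v * x = f v := by
      calc x⁻¹ * f v * x = x⁻¹ * (x * f v * x⁻¹) * x := by rw [hV v hv]
        _ = f v := by group
    have htv : (t * v * t⁻¹) ^ 2 = 1 := by rw [conj_pow, hv, mul_one, mul_inv_cancel]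
    calc f (s * v * s⁻¹) = x * (f t * (x⁻¹ * f v * x) * (f t)⁻¹) * x⁻¹ := by
          rw [map_mul, map_mul, map_inv, hs]; group
      _ = x * f (t * v * t⁻¹) * x⁻¹ := by rw [hv', map_mul, map_mul, map_inv]
      _ = f (t * v * t⁻¹) := hV _ htv)
  have hxw := hV w hw
  set i := (f w)⁻¹ * x with hi
  have hiS : (i : X) ∉ S := by
    intro h5
    apply hxS
    have h6 : ((f w : ↥(centralizer ({(y : X)} : Set X))) : X) ∈ S := (w : ↥S).2
    have h7 := mul_mem h6 h5
    have h8 : ((f w : ↥(centralizer ({(y : X)} : Set X))) : X) * (i : X) = x := by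
      rw [hi, Subgroup.coe_mul, Subgroup.coe_inv, mul_inv_cancel_left]
    rwa [h8] at h7
  have hi1 : i ≠ 1 := by
    intro h5
    apply hiS
    rw [h5]
    exact one_mem S
  have hi2 : i ^ 2 = 1 := by
    have h5 : x * (f w)⁻¹ * x⁻¹ = (f w)⁻¹ := by
      have h6 := congrArg (fun z => z⁻¹) hxw
      simpa [mul_assoc] using h6
    have h6 : ((f w)⁻¹) ^ 2 = 1 := by rw [inv_pow, ← map_pow, hw, map_one, inv_one]
    calc i ^ 2 = (f w)⁻¹ * (x * (f w)⁻¹ * x⁻¹) * x ^ 2 := by rw [hi, pow_two, pow_two]; group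
      _ = 1 := by rw [h5, hx2, mul_one, ← pow_two, h6]
  have hio : orderOf i = 2 := orderOf_eq_prime hi2 hi1
  have hit : Commute i (f t) := by
    have h5 : i * f t * i⁻¹ = f t := by
      calc i * f t * i⁻¹ = (f w)⁻¹ * (x * f t * x⁻¹) * f w := by rw [hi]; group
        _ = (f w)⁻¹ * f (w * t * w⁻¹) * f w := by rw [← hs, hw2]
        _ = f t := by rw [map_mul, map_mul, map_inv]; group
    show i * f t = f t * i
    calc i * f t = (i * f t * i⁻¹) * i := by group
      _ = f t * i := by rw [h5]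
  have hft : orderOf (f t) = 3 := by rw [orderOf_injective f hfi]; exact ht
  have h6 : orderOf (i * f t) = 6 := by
    rw [hit.orderOf_mul_eq_mul_orderOf_of_coprime (by rw [hio, hft]; norm_num), hio, hft]
  set u := i * f t with hu
  have huX : orderOf (u : X) = 6 := by rw [Subgroup.orderOf_coe]; exact h6
  have hcw : Commute (u : X) (y : X) := mem_centralizer_singleton_iff.1 u.2
  refine ⟨(u : X) * y, ?_⟩
  rw [hcw.orderOf_mul_eq_mul_orderOf_of_coprime (by rw [huX, hyX]; norm_num), huX, hyX]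

end Cfsg.Agent.H385.SuzOut
end
end

-- part: H385/SpTopB
section
prune_inst 0x200040302000000000000004000000600800000200600001c14002000a01010140000100025033100102a2e0400c00081100005002400000240000000000012000080200a07c0c00110010009004000000000000000000000000000000000000000000000
set_option linter.all false
open scoped Cfsg.Agent.FastGrp

/-!
# Element orders from a factor at the top of a normal nilpotent subgroup (helper385)

* `exists_quot` : `K` nilpotent normal in `G`, `s ∣ |K|`: there is `R < K` normal in `G` with `K ⧸ R` elementary;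
* `trivial_order` : a simple `S` acting trivially;
* `top_frob` : `K` nilpotent, `A⟨x⟩ ≤ S` Frobenius, `x` of order `e`: there is an element of order `e s`;
* `top_klein` : `2² × A⟨w⟩`, order `18`.
-/

set_option autoImplicit false
set_option linter.unusedSectionVars false
set_option linter.style.haveILetI false

namespace Cfsg.Agent.H385.Sp

open Finset Subgroup

/-- orders in quotients -/
theorem exists_order_of_quot {G Q : Type*} [Group G] [Finite G] [Group Q] (f : G →* Q) (hf : Function.Surjective f) {m : ℕ}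
    (hm : m ≠ 0) (h : ∃ x : Q, orderOf x = m) : ∃ g : G, orderOf g = m := by
  obtain ⟨x, hx⟩ := h
  obtain ⟨g, rfl⟩ := hf x
  have h2 : m ∣ orderOf g := by
    rw [← hx]
    exact orderOf_map_dvd _ _
  refine ⟨g ^ (orderOf g / m), ?_⟩
  obtain ⟨c, hc⟩ := h2
  have hpos := orderOf_pos g
  have hc0 : c ≠ 0 := by
    rintro rfl
    rw [hc, mul_zero] at hpos
    exact lt_irrefl 0 hpos
  rw [hc, Nat.mul_div_cancel_left _ (Nat.pos_of_ne_zero hm), orderOf_pow' _ hc0, hc,
    Nat.gcd_eq_right (Dvd.intro_left m rfl), Nat.mul_div_cancel _ (Nat.pos_of_ne_zero hc0)]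

/-- a simple group acting trivially on an abelian kernel gives orders `m s` -/
theorem trivial_order {Y Q : Type*} [Group Y] [Group Q] [Finite Y] (f : Y →* Q) (hf : Function.Surjective f) {s : ℕ}
    (hs : s.Prime) (hexp : ∀ v ∈ f.ker, v ^ s = 1) (hne : f.ker ≠ ⊥) (S : Subgroup Q) [S.Normal] (hS : IsSimpleGroup ↥S)
    (A : Subgroup Q) (hAS : A ≤ S) (hA : A ≠ ⊥) (htr : ∀ y, f y ∈ A → ∀ v ∈ f.ker, y * v = v * y)
    {m : ℕ} (hms : Nat.Coprime m s) (hm : ∃ q ∈ S, orderOf q = m) : ∃ y : Y, orderOf y = m * s := by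
  have : Finite Q := Finite.of_surjective f hf
  set C : Subgroup Y := centralizer (f.ker : Set Y) with hC
  have hCn : C.Normal := inferInstance
  have hD : (C.map f).Normal := hCn.map f hf
  have hAC : A ≤ C.map f := by
    intro a ha
    obtain ⟨y, rfl⟩ := hf a
    exact ⟨y, mem_centralizer_iff.2 fun v hv => (htr y ha v hv).symm, rfl⟩
  have hSC : S ≤ C.map f := by
    have h1 : ((C.map f).subgroupOf S).Normal := inferInstance
    rcases h1.eq_bot_or_eq_top with h2 | h2
    · exfalso
      apply hA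
      rw [eq_bot_iff]
      intro a ha
      have h3 : (⟨a, hAS ha⟩ : S) ∈ (C.map f).subgroupOf S := mem_subgroupOf.2 (hAC ha)
      rw [h2, mem_bot] at h3
      exact mem_bot.2 (congrArg Subtype.val h3)
    · exact subgroupOf_eq_top.1 h2
  obtain ⟨q, hq, hqm⟩ := hm
  obtain ⟨c, hc, rfl⟩ := hSC hq
  -- an element of order `m` in `C`
  have hm0 : m ≠ 0 := by
    rw [← hqm]
    exact (orderOf_pos (f c)).ne'
  obtain ⟨c', hc', hc'm⟩ : ∃ c' ∈ C, orderOf c' = m := by
    obtain ⟨k, hk⟩ : m ∣ orderOf c := by rw [← hqm]; exact orderOf_map_dvd _ _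
    have hpos := orderOf_pos c
    have hk0 : k ≠ 0 := by
      rintro rfl
      rw [hk, mul_zero] at hpos
      exact lt_irrefl 0 hpos
    refine ⟨c ^ k, C.pow_mem hc k, ?_⟩
    rw [orderOf_pow' _ hk0, hk, Nat.gcd_eq_right (Dvd.intro_left m rfl), Nat.mul_div_cancel _ (Nat.pos_of_ne_zero hk0)]
  obtain ⟨v, hv, hv1⟩ : ∃ v ∈ f.ker, v ≠ 1 := by
    by_contra hno
    push Not at hno
    exact hne ((Subgroup.eq_bot_iff_forall _).2 hno)
  have := Fact.mk hs
  have hvs : orderOf v = s := orderOf_eq_prime (hexp v hv) hv1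
  have hcomm : Commute c' v := (mem_centralizer_iff.1 hc' v hv).symm
  refine ⟨c' * v, ?_⟩
  rw [hcomm.orderOf_mul_eq_mul_orderOf_of_coprime (by rw [hc'm, hvs]; exact hms), hc'm, hvs]

/-- a nontrivial `s`-group has a nontrivial homomorphism to `ℤ / s` -/
theorem exists_hom_of_pGroup {P : Type*} [Group P] [Finite P] {s : ℕ} (hs : s.Prime) (hP : IsPGroup s P)
    (h1 : Nontrivial P) : ∃ φ : P →* Multiplicative (ZMod s), φ ≠ 1 := by
  have := Fact.mk hs
  obtain ⟨n, hn⟩ := (IsPGroup.iff_card).1 hP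
  have hn0 : n ≠ 0 := by
    rintro rfl
    rw [pow_zero] at hn
    exact Finite.one_lt_card.ne' hn
  obtain ⟨m, rfl⟩ : ∃ m, n = m + 1 := ⟨n - 1, by omega⟩
  obtain ⟨M, hM⟩ := Sylow.exists_subgroup_card_pow_prime (G := P) s (n := m) (by rw [hn]; exact pow_dvd_pow _ (Nat.le_succ m))
  have hidx : M.index = s := by
    have h2 := M.card_mul_index
    rw [hM, hn, pow_succ] at h2
    exact Nat.eq_of_mul_eq_mul_left (pow_pos hs.pos m) h2
  have hMn : M.Normal := by
    apply Subgroup.normal_of_index_eq_minFac_card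
    rw [hidx, hn, hs.pow_minFac (Nat.succ_ne_zero m)]
  have hcard : Nat.card (P ⧸ M) = s := hidx
  have hc : IsCyclic (P ⧸ M) := isCyclic_of_prime_card hcard
  have e : (P ⧸ M) ≃* Multiplicative (ZMod s) := mulEquivOfCyclicCardEq (by rw [hcard]; simp)
  refine ⟨e.toMonoidHom.comp (QuotientGroup.mk' M), ?_⟩
  intro h2
  have h3 : M = ⊤ := by
    rw [eq_top_iff]
    intro x _
    have h4 := DFunLike.congr_fun h2 x
    have h5 : e (QuotientGroup.mk' M x) = 1 := h4
    rw [map_eq_one_iff e e.injective] at h5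
    exact (QuotientGroup.eq_one_iff x).1 h5
  rw [h3, index_top] at hidx
  exact hs.one_lt.ne hidx

/-- a nilpotent group has a nontrivial homomorphism to `ℤ / s` if `s` divides its order -/
theorem exists_hom_of_nilpotent {K : Type*} [Group K] [Finite K] {s : ℕ} (hs : s.Prime) (hK : Group.IsNilpotent K)
    (h : s ∣ Nat.card K) : ∃ φ : K →* Multiplicative (ZMod s), φ ≠ 1 := by
  have := Fact.mk hs
  obtain ⟨P⟩ : Nonempty (Sylow s K) := inferInstance
  have h5 := (Group.isNilpotent_of_finite_tfae (G := K)).out 0 4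
  obtain ⟨e⟩ := h5.1 hK
  have hmem : s ∈ (Nat.card K).primeFactors := Nat.mem_primeFactors.2 ⟨hs, h, Nat.card_pos.ne'⟩
  let π : (∀ p : (Nat.card K).primeFactors, ∀ Q : Sylow p K, (↑Q : Subgroup K)) →* P :=
    (Pi.evalMonoidHom (fun Q : Sylow s K => (↑Q : Subgroup K)) P).comp
      (Pi.evalMonoidHom (fun p : (Nat.card K).primeFactors => ∀ Q : Sylow p K, (↑Q : Subgroup K)) ⟨s, hmem⟩)
  have hP1 : Nontrivial P := by
    rw [← Finite.one_lt_card_iff_nontrivial]
    have h6 := P.dvd_card_of_dvd_card h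
    exact lt_of_lt_of_le hs.one_lt (Nat.le_of_dvd Nat.card_pos h6)
  obtain ⟨φ, hφ⟩ := exists_hom_of_pGroup hs P.isPGroup' hP1
  refine ⟨(φ.comp π).comp e.symm.toMonoidHom, ?_⟩
  intro h2
  apply hφ
  ext x
  classical
  have hsurj : Function.Surjective π := by
    intro x
    refine ⟨Pi.mulSingle ⟨s, hmem⟩ (Pi.mulSingle P x), ?_⟩
    simp [π]
  obtain ⟨z, hz⟩ := hsurj x
  have h3 := DFunLike.congr_fun h2 (e z)
  have h4 : φ (π (e.symm (e z))) = 1 := h3
  rw [e.symm_apply_apply, hz] at h4
  rw [h4]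
  rfl

/-- the intersection of the kernels of all homomorphisms to `ℤ / s` -/
def homKer (K : Type*) [Group K] (s : ℕ) : Subgroup K := ⨅ φ : K →* Multiplicative (ZMod s), φ.ker

theorem mem_homKer {K : Type*} [Group K] {s : ℕ} {x : K} :
    x ∈ homKer K s ↔ ∀ φ : K →* Multiplicative (ZMod s), φ x = 1 := by
  rw [homKer, mem_iInf]
  rfl

theorem exists_quot {G : Type*} [Group G] [Finite G] (K : Subgroup G) [K.Normal] {s : ℕ}
    (h : ∃ φ : ↥K →* Multiplicative (ZMod s), φ ≠ 1) :
    ∃ R : Subgroup G, R.Normal ∧ R ≤ K ∧ ¬ K ≤ R ∧ (∀ a ∈ K, ∀ b ∈ K, a * b * a⁻¹ * b⁻¹ ∈ R) ∧ ∀ a ∈ K, a ^ s ∈ R := by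
  refine ⟨(homKer ↥K s).map K.subtype, ?_, ?_, ?_, ?_, ?_⟩
  · constructor
    rintro _ ⟨x, hx, rfl⟩ g
    refine ⟨MulAut.conjNormal g x, ?_, ?_⟩
    · rw [SetLike.mem_coe, mem_homKer] at hx ⊢
      intro φ
      exact hx (φ.comp (MulAut.conjNormal g : MulAut ↥K).toMonoidHom)
    · exact MulAut.conjNormal_apply g x
  · rintro _ ⟨x, -, rfl⟩
    exact x.2
  · intro hle
    obtain ⟨φ, hφ⟩ := h
    apply hφ
    ext x
    obtain ⟨y, hy, hyx⟩ := hle x.2
    have h2 : y = x := Subtype.ext hyx
    rw [← h2, mem_homKer.1 hy φ]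
    rfl
  · intro a ha b hb
    refine ⟨⟨a, ha⟩ * ⟨b, hb⟩ * ⟨a, ha⟩⁻¹ * ⟨b, hb⟩⁻¹, mem_homKer.2 fun φ => ?_, rfl⟩
    rw [map_mul, map_mul, map_mul, map_inv, map_inv, mul_right_comm (φ ⟨a, ha⟩), mul_inv_cancel, one_mul, mul_inv_cancel]
  · intro a ha
    refine ⟨⟨a, ha⟩ ^ s, mem_homKer.2 fun φ => ?_, rfl⟩
    rw [map_pow]
    exact Multiplicative.toAdd.injective (by rw [toAdd_pow, toAdd_one, nsmul_eq_mul, CharP.cast_eq_zero, zero_mul])

section

variable {G : Type*} [Group G] [Finite G] (K : Subgroup G) [K.Normal]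

/-- the map between the quotients -/
theorem quot_data (R : Subgroup G) [R.Normal] (hRK : R ≤ K) (hKR : ¬ K ≤ R) {s : ℕ}
    (hab : ∀ a ∈ K, ∀ b ∈ K, a * b * a⁻¹ * b⁻¹ ∈ R) (hexp : ∀ a ∈ K, a ^ s ∈ R) :
    ∃ f : G ⧸ R →* G ⧸ K, Function.Surjective f ∧ (∀ a ∈ f.ker, ∀ b ∈ f.ker, a * b = b * a) ∧
      (∀ v ∈ f.ker, v ^ s = 1) ∧ f.ker ≠ ⊥ ∧ f.comp (QuotientGroup.mk' R) = QuotientGroup.mk' K := by
  let f : G ⧸ R →* G ⧸ K := QuotientGroup.map R K (MonoidHom.id G) hRK
  have hfc : ∀ g : G, f (QuotientGroup.mk' R g) = QuotientGroup.mk' K g := fun g => rfl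
  have hker : ∀ v, v ∈ f.ker ↔ ∃ g ∈ K, QuotientGroup.mk' R g = v := by
    intro v
    obtain ⟨g, rfl⟩ := QuotientGroup.mk'_surjective R v
    constructor
    · intro h
      refine ⟨g, ?_, rfl⟩
      rw [MonoidHom.mem_ker, hfc, QuotientGroup.mk'_apply, QuotientGroup.eq_one_iff] at h
      exact h
    · rintro ⟨g', hg', h⟩
      rw [← h, MonoidHom.mem_ker, hfc, QuotientGroup.mk'_apply, QuotientGroup.eq_one_iff]
      exact hg'
  refine ⟨f, ?_, ?_, ?_, ?_, ?_⟩
  · intro q
    obtain ⟨g, rfl⟩ := QuotientGroup.mk'_surjective K q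
    exact ⟨QuotientGroup.mk' R g, rfl⟩
  · intro a ha b hb
    obtain ⟨x, hx, rfl⟩ := (hker a).1 ha
    obtain ⟨y, hy, rfl⟩ := (hker b).1 hb
    have h1 := hab x hx y hy
    rw [← QuotientGroup.eq_one_iff] at h1
    have h2 : QuotientGroup.mk' R x * QuotientGroup.mk' R y * (QuotientGroup.mk' R x)⁻¹ * (QuotientGroup.mk' R y)⁻¹ = 1 := h1
    calc QuotientGroup.mk' R x * QuotientGroup.mk' R y =
        (QuotientGroup.mk' R x * QuotientGroup.mk' R y * (QuotientGroup.mk' R x)⁻¹ * (QuotientGroup.mk' R y)⁻¹) *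
          (QuotientGroup.mk' R y * QuotientGroup.mk' R x) := by group
      _ = _ := by rw [h2, one_mul]
  · intro v hv
    obtain ⟨x, hx, rfl⟩ := (hker v).1 hv
    rw [← map_pow, QuotientGroup.mk'_apply, QuotientGroup.eq_one_iff]
    exact hexp x hx
  · intro h
    apply hKR
    intro x hx
    have h1 : QuotientGroup.mk' R x ∈ f.ker := (hker _).2 ⟨x, hx, rfl⟩
    rw [h, mem_bot, QuotientGroup.mk'_apply, QuotientGroup.eq_one_iff] at h1
    exact h1
  · ext g
    rfl

variable (S : Subgroup (G ⧸ K)) [S.Normal] (hS : IsSimpleGroup ↥S)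

include hS

/-- **A Frobenius group in `S` acting on the top factor.** -/
theorem top_frob' {s : ℕ} (hs : s.Prime) (hK : ∃ φ : ↥K →* Multiplicative (ZMod s), φ ≠ 1) (A : Subgroup ↥S) (hA : A ≠ ⊥)
    (hcop : ¬ s ∣ Nat.card ↥A) (x : ↥S) {e : ℕ} (hx : orderOf x = e) (hxn : ∀ a ∈ A, x * a * x⁻¹ ∈ A)
    (hfx : ∀ i, 0 < i → i < e → ∀ a ∈ A, a * x ^ i = x ^ i * a → a = 1) {m : ℕ} (hms : Nat.Coprime m s)
    (hm : ∃ y : ↥S, orderOf y = m) (h1 : ¬ ∃ g : G, orderOf g = m * s) : ∃ g : G, orderOf g = e * s := by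
  obtain ⟨R, hRn, hRK, hKR, hab, hexp⟩ := exists_quot K hK
  obtain ⟨f, hf, hfab, hfexp, hfne, -⟩ := quot_data K R hRK hKR hab hexp
  have he0 : e ≠ 0 := by rw [← hx]; exact (orderOf_pos x).ne'
  refine exists_order_of_quot (QuotientGroup.mk' R) (QuotientGroup.mk'_surjective R) (mul_ne_zero he0 hs.ne_zero) ?_
  have hxn' : ∀ a ∈ A.map S.subtype, (x : G ⧸ K) * a * (x : G ⧸ K)⁻¹ ∈ A.map S.subtype := by
    rintro _ ⟨a, ha, rfl⟩
    exact ⟨x * a * x⁻¹, hxn a ha, rfl⟩
  have hfx' : ∀ i, 0 < i → i < e → ∀ a ∈ A.map S.subtype, a * (x : G ⧸ K) ^ i = (x : G ⧸ K) ^ i * a → a = 1 := by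
    rintro i hi hie _ ⟨a, ha, rfl⟩ hc
    have h2 : a * x ^ i = x ^ i * a := Subtype.ext hc
    rw [hfx i hi hie a ha h2]
    rfl
  have hcop' : Nat.Coprime (Nat.card ↥(A.map S.subtype)) s := by
    have h3 : Nat.card ↥(A.map S.subtype) = Nat.card ↥A :=
      (Nat.card_congr (A.equivMapOfInjective _ S.subtype_injective).toEquiv).symm
    rw [h3]
    exact (hs.coprime_iff_not_dvd.2 hcop).symm
  rcases frob_order f hf hfab hs hfexp (A.map S.subtype) (x : G ⧸ K) (e := e) (by rw [Subgroup.orderOf_coe, hx])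
    hxn' hfx' hcop' with h | h
  · exact h
  · exfalso
    obtain ⟨y, hy⟩ := hm
    have hm0 : m ≠ 0 := by rw [← hy]; exact (orderOf_pos y).ne'
    apply h1
    refine exists_order_of_quot (QuotientGroup.mk' R) (QuotientGroup.mk'_surjective R) (mul_ne_zero hm0 hs.ne_zero) ?_
    refine trivial_order f hf hs hfexp hfne S hS (A.map S.subtype) ?_ ?_ h hms ⟨y, y.2, by rw [Subgroup.orderOf_coe, hy]⟩
    · rintro _ ⟨a, -, rfl⟩
      exact a.2
    · rwa [ne_eq, Subgroup.map_eq_bot_iff_of_injective _ S.subtype_injective]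

end

end Cfsg.Agent.H385.Sp

private theorem dce_214747f4326b : _root_.True := by
  try have : _root_.True := by simp only [_root_.Cfsg.Agent.H385.Sp.homKer.eq_1]
  exact _root_.True.intro
end
end
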